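/-
Extremely primitive affine groups, part 1.

`H` acts irreducibly on a finite `p`-group `V` and every stabilizer of a non-zero vector is a maximal
subgroup.  If `H` is not solvable then `p = 2`, and a minimal normal subgroup of `H` is non-abelian
with trivial centralizer.
-/
import Mathlib
import Cfsg.Agent.EqLemmas
import Cfsg.Agent.Lib.OddOrderTheorem.Basic

namespace Cfsg.Agent.ExtremelyPrimitive

open MulAction

set_option linter.unusedSectionVars false

universe u v

/-- An insoluble irreducible linear group all of whose vector stabilizers are maximal. -/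
structure Setup (p : ℕ) (H : Type u) [Group H] (V : Type v) [AddCommGroup V]
    [DistribMulAction H V] : Prop where
  prime : p.Prime
  card : ∃ d, Nat.card V = p ^ d
  nontriv : Nontrivial V
  faith : ∀ h : H, (∀ v : V, h • v = v) → h = 1
  irr : ∀ W : AddSubgroup V, (∀ h : H, ∀ w ∈ W, h • w ∈ W) → W = ⊥ ∨ W = ⊤
  coat : ∀ v : V, v ≠ 0 → IsCoatom (stabilizer H v)
  nsol : ¬ Group.IsSolvable H

variable {p : ℕ} {H : Type u} [Group H] [Finite H] {V : Type v} [AddCommGroup V] [Finite V]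
  [DistribMulAction H V] (S : Setup p H V)
include S

/-- A normal subgroup fixing a non-zero vector is trivial. -/
theorem Setup.eq_bot_of_fix {K : Subgroup H} [hK : K.Normal] {v : V} (hv : v ≠ 0)
    (hfix : ∀ k ∈ K, k • v = v) : K = ⊥ := by
  let W : AddSubgroup V :=
    { carrier := {w | ∀ k ∈ K, k • w = w}
      zero_mem' := fun k _ => smul_zero k
      add_mem' := fun {a b} ha hb k hk => by rw [smul_add, ha k hk, hb k hk]
      neg_mem' := fun {a} ha k hk => by rw [smul_neg, ha k hk] }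
  rcases S.irr W (fun h w hw k hk => by
    have h1 := hw (h⁻¹ * k * h⁻¹⁻¹) (hK.conj_mem k hk h⁻¹)
    rwa [inv_inv, mul_smul, mul_smul, inv_smul_eq_iff] at h1) with h | h
  · exact absurd (AddSubgroup.mem_bot.1 (h ▸ (hfix : v ∈ W))) hv
  · rw [Subgroup.eq_bot_iff_forall]
    exact fun k hk => S.faith k fun w => (h ▸ AddSubgroup.mem_top w : w ∈ W) k hk

theorem Setup.sup_stab {K : Subgroup H} [K.Normal] (hK : K ≠ ⊥) {v : V} (hv : v ≠ 0) :
    K ⊔ stabilizer H v = ⊤ := by
  refine (S.coat v hv).2 _ (lt_of_le_of_ne le_sup_right fun h => hK (S.eq_bot_of_fix hv ?_))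
  exact fun k hk => mem_stabilizer_iff.1 (h ▸ le_sup_left (b := stabilizer H v) hk)

theorem Setup.exists_decomp {K : Subgroup H} [K.Normal] (hK : K ≠ ⊥) {v : V} (hv : v ≠ 0) (h : H) :
    ∃ m ∈ K, ∃ k : H, k • v = v ∧ h = m * k := by
  have h1 : h ∈ K ⊔ stabilizer H v := (S.sup_stab hK hv).symm ▸ Subgroup.mem_top h
  obtain ⟨m, hm, k, hk, rfl⟩ := Subgroup.mem_sup_of_normal_left.1 h1
  exact ⟨m, hm, k, mem_stabilizer_iff.1 hk, rfl⟩

theorem Setup.exists_involution : ∃ t : H, t ≠ 1 ∧ t * t = 1 := by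
  have h2 : 2 ∣ Nat.card H := by
    by_contra h
    exact S.nsol (OddOrderTheorem.solvable (Nat.odd_iff.2 (Nat.two_dvd_ne_zero.1 h)))
  have := Fact.mk Nat.prime_two
  obtain ⟨t, ht⟩ := exists_prime_orderOf_dvd_card' 2 h2
  exact ⟨t, fun h => by rw [h, orderOf_one] at ht; omega,
    by rw [← sq, ← ht, pow_orderOf_eq_one]⟩

/-- An element negating a non-zero vector fixes it. -/
theorem Setup.smul_ne_neg {t : H} {v : V} (hv : v ≠ 0) (h2 : v + v ≠ 0) : t • v ≠ -v := by
  intro htv
  let K : Subgroup H :=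
    { carrier := {h | h • v = v ∨ h • v = -v}
      one_mem' := .inl (one_smul H v)
      mul_mem' := fun {a b} ha hb => by
        rcases hb with hb | hb <;> rcases ha with ha | ha
        · exact .inl (by rw [mul_smul, hb, ha])
        · exact .inr (by rw [mul_smul, hb, ha])
        · exact .inr (by rw [mul_smul, hb, smul_neg, ha])
        · exact .inl (by rw [mul_smul, hb, smul_neg, ha, neg_neg])
      inv_mem' := fun {a} ha => by
        rcases ha with ha | ha
        · exact .inl (inv_smul_eq_iff.2 ha.symm)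
        · exact .inr (inv_smul_eq_iff.2 (by rw [smul_neg, ha, neg_neg])) }
  have hKtop : K = ⊤ := by
    refine (S.coat v hv).2 K (lt_of_le_of_ne (fun h hh => .inl (mem_stabilizer_iff.1 hh))
      fun h => ?_)
    have h1 : t ∈ stabilizer H v := h ▸ (.inr htv : t ∈ K)
    rw [mem_stabilizer_iff, htv] at h1
    exact h2 (neg_eq_iff_add_eq_zero.1 h1)
  have hall : ∀ h : H, h • v = v ∨ h • v = -v := fun h => (hKtop ▸ Subgroup.mem_top h : h ∈ K)
  rcases S.irr (AddSubgroup.zmultiples v) (fun h w hw => by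
    obtain ⟨k, rfl⟩ := AddSubgroup.mem_zmultiples_iff.1 hw
    show h • k • v ∈ _
    rw [← DistribSMul.toAddMonoidHom_apply, map_zsmul, DistribSMul.toAddMonoidHom_apply]
    refine zsmul_mem ?_ k
    rcases hall h with h' | h' <;> rw [h']
    exacts [AddSubgroup.mem_zmultiples v, neg_mem (AddSubgroup.mem_zmultiples v)]) with h | h
  · exact hv (AddSubgroup.mem_bot.1 (h ▸ AddSubgroup.mem_zmultiples v))
  refine S.nsol (Group.isSolvable_of_comm fun a b => ?_)
  have hcomm : ∀ w : V, (a * b) • w = (b * a) • w := by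
    intro w
    obtain ⟨k, rfl⟩ := AddSubgroup.mem_zmultiples_iff.1 (h ▸ AddSubgroup.mem_top w :
      w ∈ AddSubgroup.zmultiples v)
    rw [← DistribSMul.toAddMonoidHom_apply V, ← DistribSMul.toAddMonoidHom_apply V (b * a),
      map_zsmul, map_zsmul, DistribSMul.toAddMonoidHom_apply, DistribSMul.toAddMonoidHom_apply,
      mul_smul, mul_smul]
    rcases hall a with ha | ha <;> rcases hall b with hb | hb <;>
      simp [ha, hb, smul_neg]
  have := S.faith ((b * a)⁻¹ * (a * b)) fun w => by rw [mul_smul, hcomm, inv_smul_smul]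
  exact (inv_mul_eq_one.1 this).symm

theorem Setup.p_eq_two : p = 2 := by
  by_contra hp
  obtain ⟨t, ht1, ht2⟩ := S.exists_involution
  obtain ⟨v, hv⟩ : ∃ v : V, t • v ≠ v := by
    by_contra hc
    push Not at hc
    exact ht1 (S.faith t hc)
  set w := t • v - v with hw
  have hw0 : w ≠ 0 := sub_ne_zero.2 hv
  refine S.smul_ne_neg (t := t) hw0 (fun h => ?_) ?_
  · obtain ⟨d, hd⟩ := S.card
    have h2 : addOrderOf w ∣ 2 := addOrderOf_dvd_of_nsmul_eq_zero (by rw [two_nsmul]; exact h)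
    have hp' : addOrderOf w ∣ p ^ d := hd ▸ addOrderOf_dvd_natCard w
    have hc : Nat.Coprime 2 (p ^ d) :=
      ((Nat.coprime_primes Nat.prime_two S.prime).2 (Ne.symm hp)).pow_right d
    have h1 := Nat.dvd_gcd h2 hp'
    rw [hc.gcd_eq_one, Nat.dvd_one, AddMonoid.addOrderOf_eq_one_iff] at h1
    exact hw0 h1
  · rw [hw, smul_sub, ← mul_smul, ht2, one_smul, neg_sub]

/-- An involution fixes a non-zero vector. -/
theorem Setup.exists_fixed {t : H} (ht : t * t = 1) : ∃ v : V, v ≠ 0 ∧ t • v = v := by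
  have := S.nontriv
  by_cases h : ∀ v : V, t • v = v
  · obtain ⟨v, hv⟩ := exists_ne (0 : V)
    exact ⟨v, hv, h v⟩
  push Not at h
  obtain ⟨v, hv⟩ := h
  by_cases h' : t • v + v = 0
  · refine ⟨v, fun h0 => hv (by rw [h0, smul_zero]), ?_⟩
    have hp := S.p_eq_two
    obtain ⟨d, hd⟩ := S.card
    by_cases hvv : v + v = 0
    · rw [eq_neg_of_add_eq_zero_left h', neg_eq_iff_add_eq_zero.2 hvv]
    · exact absurd (eq_neg_of_add_eq_zero_left h') (S.smul_ne_neg (fun h0 => hv (by
        rw [h0, smul_zero])) hvv)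
  · exact ⟨t • v + v, h', by rw [smul_add, ← mul_smul, ht, one_smul, add_comm]⟩

variable {M : Subgroup H} [hM : M.Normal]
include hM

theorem Setup.normal_of_le_centralizer (hM1 : M ≠ ⊥) {K : Subgroup H} {v : V} (hv : v ≠ 0)
    (hKv : ∀ k ∈ K, k • v = v) (hKM : K ≤ Subgroup.centralizer (M : Set H))
    (hKn : ∀ g : H, g • v = v → ∀ k ∈ K, g * k * g⁻¹ ∈ K) : K = ⊥ := by
  have hn : K.Normal := ⟨fun k hk g => by
    obtain ⟨m, hm, j, hj, rfl⟩ := S.exists_decomp hM1 hv g
    have h1 := hKn j hj k hk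
    have h2 : m * (j * k * j⁻¹) = (j * k * j⁻¹) * m :=
      Subgroup.mem_centralizer_iff.1 (hKM h1) m hm
    have h3 : m * j * k * (m * j)⁻¹ = j * k * j⁻¹ := by
      calc m * j * k * (m * j)⁻¹ = m * (j * k * j⁻¹) * m⁻¹ := by group
        _ = j * k * j⁻¹ := by rw [h2, mul_inv_cancel_right]
    rwa [h3]⟩
  exact S.eq_bot_of_fix hv hKv

theorem Setup.centralizer_inf_stab (hM1 : M ≠ ⊥) {v : V} (hv : v ≠ 0) :
    Subgroup.centralizer (M : Set H) ⊓ stabilizer H v = ⊥ :=
  S.normal_of_le_centralizer (M := M) hM1 hv (fun k hk => mem_stabilizer_iff.1 hk.2) inf_le_left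
    fun g hg k hk => by
      refine ⟨(inferInstance : (Subgroup.centralizer (M : Set H)).Normal).conj_mem k hk.1 g, ?_⟩
      show g * k * g⁻¹ ∈ stabilizer H v
      rw [mem_stabilizer_iff, mul_smul, mul_smul, inv_smul_eq_iff.2 hg.symm,
        mem_stabilizer_iff.1 hk.2, hg]

/-- A minimal normal subgroup is not commutative. -/
theorem Setup.not_comm (hM1 : M ≠ ⊥) : ¬ IsMulCommutative M := by
  intro hc
  have hMle : M ≤ Subgroup.centralizer (M : Set H) := fun a ha =>
    Subgroup.mem_centralizer_iff.2 fun b hb =>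
      congrArg Subtype.val (hc.is_comm.comm (⟨b, hb⟩ : M) ⟨a, ha⟩)
  have hfree : ∀ v : V, v ≠ 0 → ∀ m ∈ M, m • v = v → m = 1 := fun v hv m hm hmv =>
    Subgroup.mem_bot.1 (S.centralizer_inf_stab (M := M) hM1 hv ▸
      (⟨hMle hm, mem_stabilizer_iff.2 hmv⟩ :
        m ∈ Subgroup.centralizer (M : Set H) ⊓ stabilizer H v))
  -- a minimal invariant subgroup
  have := S.nontriv
  obtain ⟨U, ⟨hU0, hUM⟩, hUmin⟩ := Set.exists_min_image
    {U : AddSubgroup V | U ≠ ⊥ ∧ ∀ m ∈ M, ∀ u ∈ U, m • u ∈ U}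
    (fun U => Nat.card U) (Set.toFinite _)
    ⟨⊤, top_ne_bot, fun m _ u _ => AddSubgroup.mem_top _⟩
  have hnt : Nontrivial U := (AddSubgroup.nontrivial_iff_ne_bot U).2 hU0
  let ρ : M →* AddMonoid.End U :=
    { toFun := fun m =>
        { toFun := fun u => ⟨(m : H) • (u : V), hUM _ m.2 _ u.2⟩
          map_zero' := Subtype.ext (smul_zero _)
          map_add' := fun a b => Subtype.ext (smul_add _ _ _) }
      map_one' := DFunLike.ext _ _ fun u => Subtype.ext (one_smul _ _)
      map_mul' := fun a b => DFunLike.ext _ _ fun u => Subtype.ext (mul_smul _ _ _) }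
  let A := Subring.centralizer (Set.range ρ)
  have hA : ∀ f ∈ A, f ≠ 0 → ∀ u : U, f u = 0 → u = 0 := by
    intro f hf hf0 u hu
    let W : AddSubgroup V := (AddMonoidHom.ker (f : U →+ U)).map U.subtype
    have hW : W ≤ U := fun w hw => by
      obtain ⟨w', -, rfl⟩ := AddSubgroup.mem_map.1 hw
      exact w'.2
    by_contra hu0
    have hWU : W = U := AddSubgroup.eq_of_le_of_card_ge hW (hUmin W ⟨fun h => hu0
      (Subtype.ext (AddSubgroup.mem_bot.1 (h ▸ AddSubgroup.mem_map.2 ⟨u, hu, rfl⟩))),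
      fun m hm w hw => by
        obtain ⟨w', hw', rfl⟩ := AddSubgroup.mem_map.1 hw
        refine AddSubgroup.mem_map.2 ⟨ρ ⟨m, hm⟩ w', ?_, rfl⟩
        have h1 := DFunLike.congr_fun (Subring.mem_centralizer_iff.1 hf _ ⟨⟨m, hm⟩, rfl⟩) w'
        have h1' : ρ ⟨m, hm⟩ (f w') = f (ρ ⟨m, hm⟩ w') := h1
        have hw'' : f w' = 0 := hw'
        show f (ρ ⟨m, hm⟩ w') = 0
        rw [← h1', hw'', map_zero]⟩)
    refine hf0 (DFunLike.ext _ _ fun x => ?_)
    obtain ⟨x', hx', he⟩ := AddSubgroup.mem_map.1 (hWU.symm ▸ x.2 : (x : V) ∈ W)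
    rw [show x = x' from (Subtype.ext he).symm]
    exact hx'
  have : Nontrivial A := ⟨⟨1, 0, fun h => by
    obtain ⟨u, hu⟩ := exists_ne (0 : U)
    exact hu (DFunLike.congr_fun (congrArg Subtype.val h) u)⟩⟩
  have : NoZeroDivisors A := ⟨fun {f g} hfg => by
    by_contra hc
    push Not at hc
    exact hc.2 (Subtype.ext (DFunLike.ext _ _ fun x => hA f f.2 (fun h => hc.1 (Subtype.ext h)) _
      (DFunLike.congr_fun (congrArg Subtype.val hfg) x)))⟩
  have : IsDomain A := NoZeroDivisors.to_isDomain A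
  have : Finite (AddMonoid.End U) :=
    Finite.of_injective (fun f => (f : U → U)) DFunLike.coe_injective
  let _ : Field A := (Finite.isDomain_to_isField A).toField
  let ρ' : M →* A :=
    { toFun := fun m => ⟨ρ m, Subring.mem_centralizer_iff.2 (by
        rintro _ ⟨k, rfl⟩
        rw [← map_mul, ← map_mul, hc.is_comm.comm])⟩
      map_one' := Subtype.ext (map_one ρ)
      map_mul' := fun a b => Subtype.ext (map_mul ρ a b) }
  have hρ : Function.Injective ρ' := (injective_iff_map_eq_one ρ').2 fun m hm => by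
    obtain ⟨u, hu⟩ := exists_ne (0 : U)
    have h1 : (m : H) • (u : V) = u :=
      congrArg Subtype.val (DFunLike.congr_fun (congrArg Subtype.val hm) u)
    exact Subtype.ext (hfree u (fun h => hu (Subtype.ext h)) m m.2 h1)
  have hcyc : IsCyclic M := isCyclic_of_injective_ringHom ρ' hρ
  -- stabilizers are abelian
  obtain ⟨v, hv⟩ := exists_ne (0 : V)
  have hstab : ∀ a b : H, a • v = v → b • v = v → a * b = b * a := by
    intro a b ha hb
    have key : ∀ g : H, ∃ k : ℤ, ∀ m : M, g * (m : H) * g⁻¹ = (m : H) ^ k := fun g => by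
      let φ : M →* M :=
        { toFun := fun m => ⟨g * m * g⁻¹, hM.conj_mem _ m.2 g⟩
          map_one' := Subtype.ext (by simp)
          map_mul' := fun x y => Subtype.ext (by simp [mul_assoc]) }
      obtain ⟨k, hk⟩ := MonoidHom.map_cyclic φ
      exact ⟨k, fun m => congrArg Subtype.val (hk m)⟩
    obtain ⟨i, hi⟩ := key a
    obtain ⟨j, hj⟩ := key b
    have hab : ∀ m : M, a * b * (m : H) * (a * b)⁻¹ = b * a * (m : H) * (b * a)⁻¹ := fun m => by
      calc a * b * (m : H) * (a * b)⁻¹ = a * (b * m * b⁻¹) * a⁻¹ := by group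
        _ = (a * m * a⁻¹) ^ j := by rw [hj, conj_zpow]
        _ = ((m : H) ^ j) ^ i := by rw [hi, ← zpow_mul, ← zpow_mul, mul_comm]
        _ = (b * m * b⁻¹) ^ i := by rw [hj]
        _ = b * (a * m * a⁻¹) * b⁻¹ := by rw [hi, conj_zpow]
        _ = b * a * (m : H) * (b * a)⁻¹ := by group
    have h1 : (b * a)⁻¹ * (a * b) ∈ Subgroup.centralizer (M : Set H) ⊓ stabilizer H v := by
      refine ⟨Subgroup.mem_centralizer_iff.2 fun m hm => ?_, mem_stabilizer_iff.2 ?_⟩
      · have h2 := hab ⟨m, hm⟩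
        simp only at h2
        calc m * ((b * a)⁻¹ * (a * b)) = (b * a)⁻¹ * (b * a * m * (b * a)⁻¹) * (a * b) := by group
          _ = (b * a)⁻¹ * (a * b * m * (a * b)⁻¹) * (a * b) := by rw [h2]
          _ = (b * a)⁻¹ * (a * b) * m := by group
      · rw [mul_smul, mul_smul, hb, ha, inv_smul_eq_iff, mul_smul, ha, hb]
    rw [S.centralizer_inf_stab (M := M) hM1 hv, Subgroup.mem_bot, inv_mul_eq_one] at h1
    exact h1.symm
  refine S.nsol ?_
  have : Group.IsSolvable M := Group.isSolvable_of_comm fun a b => hc.is_comm.comm a b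
  have : Group.IsSolvable (H ⧸ M) := Group.isSolvable_of_comm fun x y => by
    induction x using QuotientGroup.induction_on with | H g => ?_
    induction y using QuotientGroup.induction_on with | H h => ?_
    obtain ⟨m, hm, a, ha, rfl⟩ := S.exists_decomp hM1 hv g
    obtain ⟨n, hn, b, hb, rfl⟩ := S.exists_decomp hM1 hv h
    rw [QuotientGroup.mk_mul, QuotientGroup.mk_mul, (QuotientGroup.eq_one_iff m).2 hm,
      (QuotientGroup.eq_one_iff n).2 hn, one_mul, one_mul, ← QuotientGroup.mk_mul,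
      ← QuotientGroup.mk_mul, hstab a b ha hb]
  exact Group.isSolvable_of_ker_le_range M.subtype (QuotientGroup.mk' M)
    (by rw [QuotientGroup.ker_mk', Subgroup.range_subtype])

/-- A minimal normal subgroup has trivial centralizer. -/
theorem Setup.centralizer_eq_bot (hM1 : M ≠ ⊥)
    (hmin : ∀ L : Subgroup H, L.Normal → L ≤ M → L = ⊥ ∨ L = M) :
    Subgroup.centralizer (M : Set H) = ⊥ := by
  by_contra hC
  have hCn : (Subgroup.centralizer (M : Set H)).Normal := inferInstance
  have hMC : M ≤ Subgroup.centralizer (Subgroup.centralizer (M : Set H) : Set H) :=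
    fun m hm => Subgroup.mem_centralizer_iff.2 fun c hc =>
      (Subgroup.mem_centralizer_iff.1 hc m hm).symm
  have hMfree : ∀ v : V, v ≠ 0 → M ⊓ stabilizer H v = ⊥ := fun v hv => le_bot_iff.1
    ((inf_le_inf_right _ hMC).trans (S.centralizer_inf_stab (M := Subgroup.centralizer (M : Set H))
      hC hv).le)
  by_cases h2 : 2 ∣ Nat.card M
  · have := Fact.mk Nat.prime_two
    obtain ⟨t, ht⟩ := exists_prime_orderOf_dvd_card' 2 h2
    have ht' : (t : H) * t = 1 := by
      rw [← sq, ← SubmonoidClass.coe_pow, ← ht, pow_orderOf_eq_one, OneMemClass.coe_one]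
    obtain ⟨v, hv, htv⟩ := S.exists_fixed ht'
    have h1 : (t : H) ∈ M ⊓ stabilizer H v := ⟨t.2, mem_stabilizer_iff.2 htv⟩
    rw [hMfree v hv, Subgroup.mem_bot] at h1
    rw [Subtype.ext (a2 := (1 : M)) h1, orderOf_one] at ht
    omega
  · have hMsol : Group.IsSolvable M :=
      OddOrderTheorem.solvable (Nat.odd_iff.2 (Nat.two_dvd_ne_zero.1 h2))
    have : Nontrivial M := (Subgroup.nontrivial_iff_ne_bot M).2 hM1
    have hlt : ⁅M, M⁆ < M := by
      have h0 := Subgroup.map_subtype_lt_map_subtype.2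
        (Group.IsSolvable.commutator_lt_top_of_nontrivial (G := M))
      rwa [← MonoidHom.range_eq_map, Subgroup.range_subtype, Subgroup.map_subtype_commutator] at h0
    rcases hmin ⁅M, M⁆ inferInstance hlt.le with h | h
    · refine S.not_comm hM1 ⟨⟨fun a b => Subtype.ext ?_⟩⟩
      exact (Subgroup.mem_centralizer_iff.1 (Subgroup.commutator_eq_bot_iff_le_centralizer.1 h a.2)
        b b.2).symm
    · exact hlt.ne h

end Cfsg.Agent.ExtremelyPrimitive
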