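/-
Extremely primitive affine groups, part 2: the simple factors of a minimal normal subgroup and
their stabilizers of vectors.
-/
import Cfsg.Agent.Lib.ExtremelyPrimitive.Basic

namespace Cfsg.Agent.ExtremelyPrimitive

open MulAction

set_option linter.unusedSectionVars false

universe u v

variable {H : Type u} [Group H]

/-- A conjugate of a subgroup. -/
def cj (g : H) (T : Subgroup H) : Subgroup H := T.map (MulAut.conj g).toMonoidHom

theorem mem_cj {g x : H} {T : Subgroup H} : x ∈ cj g T ↔ g⁻¹ * x * g ∈ T := by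
  constructor
  · rintro ⟨y, hy, rfl⟩
    simpa [mul_assoc] using hy
  · intro h
    exact ⟨_, h, by simp [mul_assoc]⟩

theorem conj_mem_cj {g x : H} {T : Subgroup H} (hx : x ∈ T) : g * x * g⁻¹ ∈ cj g T :=
  ⟨x, hx, by simp⟩

theorem cj_mul (g h : H) (T : Subgroup H) : cj (g * h) T = cj g (cj h T) := by
  ext x
  simp only [mem_cj, mul_inv_rev, mul_assoc]

theorem cj_one (T : Subgroup H) : cj 1 T = T := by ext x; simp [mem_cj]

theorem card_cj (g : H) (T : Subgroup H) : Nat.card (cj g T) = Nat.card T :=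
  Nat.card_congr (T.equivMapOfInjective (MulAut.conj g).toMonoidHom
    (MulAut.conj g).injective).symm.toEquiv

theorem cj_le_cj {g : H} {T U : Subgroup H} (h : T ≤ U) : cj g T ≤ cj g U := Subgroup.map_mono h

/-- A subgroup of `M` normalised by `M` and minimal with this property. -/
structure MinIn (M F : Subgroup H) : Prop where
  le : F ≤ M
  norm : ∀ m ∈ M, ∀ x ∈ F, m * x * m⁻¹ ∈ F
  ne_bot : F ≠ ⊥
  min : ∀ L : Subgroup H, L ≤ F → (∀ m ∈ M, ∀ x ∈ L, m * x * m⁻¹ ∈ L) → L ≠ ⊥ → L = F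

variable {M : Subgroup H} [hM : M.Normal]

theorem MinIn.conj {F : Subgroup H} (hF : MinIn M F) (g : H) : MinIn M (cj g F) := by
  have hnorm : ∀ {L : Subgroup H} (k : H), (∀ m ∈ M, ∀ x ∈ L, m * x * m⁻¹ ∈ L) →
      ∀ m ∈ M, ∀ x ∈ cj k L, m * x * m⁻¹ ∈ cj k L := by
    intro L k h m hm x hx
    rw [mem_cj] at hx ⊢
    have := h _ (hM.conj_mem m hm k⁻¹) _ hx
    simpa [mul_assoc] using this
  refine ⟨fun x hx => ?_, hnorm g hF.norm, fun h => hF.ne_bot ?_, fun L hL hLn hL1 => ?_⟩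
  · obtain ⟨y, hy, rfl⟩ := hx
    exact hM.conj_mem y (hF.le hy) g
  · rw [← cj_one F, ← inv_mul_cancel g, cj_mul, h, cj, Subgroup.map_bot]
  · have h1 := hF.min (cj g⁻¹ L) (by
      have := cj_le_cj (g := g⁻¹) hL
      rwa [← cj_mul, inv_mul_cancel, cj_one] at this) (hnorm g⁻¹ hLn) fun h => hL1 (by
      rw [← cj_one L, ← mul_inv_cancel g, cj_mul, h, cj, Subgroup.map_bot])
    rw [← h1, ← cj_mul, mul_inv_cancel, cj_one]

theorem MinIn.cj_eq_self {F : Subgroup H} (hF : MinIn M F) {m : H} (hm : m ∈ M) : cj m F = F := by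
  ext x
  rw [mem_cj]
  refine ⟨fun h => ?_, fun h => ?_⟩
  · simpa [mul_assoc] using hF.norm m hm _ h
  · simpa using hF.norm m⁻¹ (inv_mem hm) _ h

theorem MinIn.commute {F F' : Subgroup H} (hF : MinIn M F) (hF' : MinIn M F') (hne : F ≠ F')
    {x y : H} (hx : x ∈ F) (hy : y ∈ F') : x * y = y * x := by
  have hbot : F ⊓ F' = ⊥ := by
    by_contra h
    have hn : ∀ m ∈ M, ∀ z ∈ F ⊓ F', m * z * m⁻¹ ∈ F ⊓ F' :=
      fun m hm z hz => ⟨hF.norm m hm z hz.1, hF'.norm m hm z hz.2⟩
    exact hne ((hF.min _ inf_le_left hn h).symm.trans (hF'.min _ inf_le_right hn h))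
  have h1 : x * y * x⁻¹ * y⁻¹ ∈ F ⊓ F' :=
    ⟨by
      rw [mul_assoc x, mul_assoc x]
      exact F.mul_mem hx (hF.norm y (hF'.le hy) _ (F.inv_mem hx)),
      F'.mul_mem (hF'.norm x (hF.le hx) y hy) (F'.inv_mem hy)⟩
  rw [hbot, Subgroup.mem_bot, mul_inv_eq_one, mul_inv_eq_iff_eq_mul] at h1
  exact h1

theorem exists_minIn [Finite H] (hM1 : M ≠ ⊥) : ∃ F, MinIn M F := by
  obtain ⟨F, ⟨hF1, hFM, hFn⟩, hmin⟩ := Set.exists_min_image
    {F : Subgroup H | F ≠ ⊥ ∧ F ≤ M ∧ ∀ m ∈ M, ∀ x ∈ F, m * x * m⁻¹ ∈ F}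
    (fun F => Nat.card F) (Set.toFinite _)
    ⟨M, hM1, le_rfl, fun m hm x hx => mul_mem (mul_mem hm hx) (inv_mem hm)⟩
  exact ⟨F, hFM, hFn, hF1, fun L hL hLn hL1 =>
    Subgroup.eq_of_le_of_card_ge hL (hmin L ⟨hL1, hL.trans hFM, hLn⟩)⟩

/-- Hypotheses on a minimal normal subgroup `M` with a factor `T₀`. -/
structure Fam (p : ℕ) (V : Type v) [AddCommGroup V] [DistribMulAction H V] (M T₀ : Subgroup H) :
    Prop where
  set : Setup p H V
  normal : M.Normal
  ne_bot : M ≠ ⊥
  min : ∀ L : Subgroup H, L.Normal → L ≤ M → L = ⊥ ∨ L = M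
  cent : Subgroup.centralizer (M : Set H) = ⊥
  fac : MinIn M T₀

/-- A factor is a conjugate of `T₀`. -/
def IsFac (T₀ F : Subgroup H) : Prop := ∃ g : H, F = cj g T₀

theorem IsFac.conj {T₀ F : Subgroup H} (hF : IsFac T₀ F) (g : H) : IsFac T₀ (cj g F) := by
  obtain ⟨k, rfl⟩ := hF
  exact ⟨g * k, (cj_mul g k T₀).symm⟩

variable [Finite H] {p : ℕ} {V : Type v} [AddCommGroup V] [Finite V] [DistribMulAction H V]
  {T₀ : Subgroup H} (A : Fam p V M T₀)
include A

theorem Fam.minIn {F : Subgroup H} (hF : IsFac T₀ F) : MinIn M F := by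
  obtain ⟨g, rfl⟩ := hF
  exact A.fac.conj g

theorem Fam.fac_self : IsFac T₀ T₀ := ⟨1, (cj_one T₀).symm⟩

theorem Fam.closure_eq : Subgroup.closure {x : H | ∃ F, IsFac T₀ F ∧ x ∈ F} = M := by
  set N := Subgroup.closure {x : H | ∃ F, IsFac T₀ F ∧ x ∈ F}
  have hle : N ≤ M := by
    rw [Subgroup.closure_le]
    rintro x ⟨F, hF, hx⟩
    exact (A.minIn hF).le hx
  have hn : N.Normal := ⟨fun x hx g => by
    induction hx using Subgroup.closure_induction with
    | mem y hy =>
      obtain ⟨F, hF, hy⟩ := hy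
      exact Subgroup.subset_closure ⟨_, hF.conj g, conj_mem_cj hy⟩
    | one => simpa using one_mem N
    | mul a b _ _ ha hb => rw [← conj_mul]; exact mul_mem ha hb
    | inv a _ ha => rw [← conj_inv]; exact inv_mem ha⟩
  refine (A.min N hn hle).resolve_left fun h => A.fac.ne_bot ?_
  rw [eq_bot_iff, ← h]
  exact fun x hx => Subgroup.subset_closure ⟨T₀, A.fac_self, hx⟩

theorem Fam.nontrivial {F : Subgroup H} (hF : IsFac T₀ F) : Nontrivial F :=
  (Subgroup.nontrivial_iff_ne_bot F).2 (A.minIn hF).ne_bot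

theorem Fam.normal_mem {F : Subgroup H} (hF : IsFac T₀ F) {L : Subgroup H} (hL : L ≤ F)
    (hLn : ∀ f ∈ F, ∀ x ∈ L, f * x * f⁻¹ ∈ L) : L = ⊥ ∨ L = F := by
  by_cases h : L = ⊥
  · exact .inl h
  refine .inr ((A.minIn hF).min L hL (fun m hm => ?_) h)
  rw [← A.closure_eq] at hm
  induction hm using Subgroup.closure_induction with
  | mem y hy =>
    obtain ⟨F', hF', hy⟩ := hy
    intro x hx
    by_cases he : F' = F
    · exact hLn y (he ▸ hy) x hx
    · rwa [(A.minIn hF').commute (A.minIn hF) he hy (hL hx), mul_inv_cancel_right]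
  | one => intro x hx; simpa using hx
  | mul a b _ _ ha hb =>
    intro x hx
    have := ha _ (hb x hx)
    simpa [mul_assoc] using this
  | inv a _ ha =>
    intro x hx
    have hinj : Function.Injective fun y : L => (⟨a * y * a⁻¹, ha _ y.2⟩ : L) := fun y z e => by
      have := congrArg Subtype.val e
      exact Subtype.ext (mul_left_cancel (mul_right_cancel this))
    obtain ⟨⟨y, hy⟩, he⟩ := (Finite.injective_iff_surjective.1 hinj) ⟨x, hx⟩
    have he' : a * y * a⁻¹ = x := congrArg Subtype.val he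
    rw [← he']
    simpa [mul_assoc] using hy

theorem Fam.isSimpleGroup {F : Subgroup H} (hF : IsFac T₀ F) : IsSimpleGroup F := by
  have := A.nontrivial hF
  refine ⟨fun L hL => ?_⟩
  rcases A.normal_mem hF (L := L.map F.subtype) (Subgroup.map_subtype_le L) (fun f hf x hx => by
    obtain ⟨⟨y, hyF⟩, hy, rfl⟩ := hx
    exact ⟨_, hL.conj_mem _ hy ⟨f, hf⟩, rfl⟩) with h | h
  · exact .inl ((Subgroup.map_eq_bot_iff_of_injective _ F.subtype_injective).1 h)
  · refine .inr (Subgroup.map_injective F.subtype_injective ?_)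
    rw [h, ← MonoidHom.range_eq_map, Subgroup.range_subtype]

theorem Fam.eq_one_of_central {F : Subgroup H} (hF : IsFac T₀ F) {x : H} (hx : x ∈ F)
    (h : ∀ f ∈ F, f * x = x * f) : x = 1 := by
  have hc : x ∈ Subgroup.centralizer (M : Set H) := by
    rw [Subgroup.mem_centralizer_iff]
    intro m hm
    have hm' : m ∈ M := hm
    rw [← A.closure_eq] at hm'
    induction hm' using Subgroup.closure_induction with
    | mem y hy =>
      obtain ⟨F', hF', hy⟩ := hy
      by_cases he : F' = F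
      · exact h y (he ▸ hy)
      · exact (A.minIn hF').commute (A.minIn hF) he hy hx
    | one => simp
    | mul a b ha hb ha' hb' =>
      have h1 : a * x = x * a := ha' (by rw [← A.closure_eq]; exact ha)
      have h2 : b * x = x * b := hb' (by rw [← A.closure_eq]; exact hb)
      rw [mul_assoc, h2, ← mul_assoc, h1, mul_assoc]
    | inv a ha ha' =>
      have h1 : a * x = x * a := ha' (by rw [← A.closure_eq]; exact ha)
      exact (Commute.inv_left (show Commute a x from h1)).eq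
  rwa [A.cent, Subgroup.mem_bot] at hc

theorem Fam.not_comm {F : Subgroup H} (hF : IsFac T₀ F) : ¬ IsMulCommutative F := fun hc =>
  (A.minIn hF).ne_bot ((Subgroup.eq_bot_iff_forall F).2 fun x hx => A.eq_one_of_central hF hx
    fun f hf => congrArg Subtype.val (hc.is_comm.comm (⟨f, hf⟩ : F) ⟨x, hx⟩))

/-- An involution of `F` outside a given proper subgroup. -/
theorem Fam.exists_invol {F : Subgroup H} (hF : IsFac T₀ F) {L : Subgroup H} (hL : ¬ F ≤ L) :
    ∃ t ∈ F, t * t = 1 ∧ t ∉ L := by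
  by_contra hc
  push Not at hc
  set K := Subgroup.closure {x : H | x ∈ F ∧ x * x = 1}
  have hKF : K ≤ F := by rw [Subgroup.closure_le]; exact fun x hx => hx.1
  have hKL : K ≤ L := by rw [Subgroup.closure_le]; exact fun x hx => hc x hx.1 hx.2
  rcases A.normal_mem hF hKF (fun f hf x hx => by
    induction hx using Subgroup.closure_induction with
    | mem y hy =>
      exact Subgroup.subset_closure ⟨mul_mem (mul_mem hf hy.1) (inv_mem hf), by
        rw [conj_mul, hy.2]; simp⟩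
    | one => simpa using one_mem K
    | mul a b _ _ ha hb => rw [← conj_mul]; exact mul_mem ha hb
    | inv a _ ha => rw [← conj_inv]; exact inv_mem ha) with h | h
  · have hodd : Odd (Nat.card F) := by
      rw [Nat.odd_iff, ← Nat.two_dvd_ne_zero]
      intro h2
      have := Fact.mk Nat.prime_two
      obtain ⟨x, hx⟩ := exists_prime_orderOf_dvd_card' 2 h2
      have hx2 : (x : H) * x = 1 := by
        rw [← sq, ← SubmonoidClass.coe_pow, ← hx, pow_orderOf_eq_one, OneMemClass.coe_one]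
      have : (x : H) ∈ K := Subgroup.subset_closure ⟨x.2, hx2⟩
      rw [h, Subgroup.mem_bot] at this
      rw [Subtype.ext (a2 := (1 : F)) this, orderOf_one] at hx
      omega
    have := A.isSimpleGroup hF
    have : Group.IsSolvable F := OddOrderTheorem.solvable hodd
    exact A.not_comm hF ⟨⟨IsSimpleGroup.comm_iff_isSolvable.2 this⟩⟩
  · exact hL (h ▸ hKL)

theorem Fam.conj_stab_le {k : H} {v : V} (hk : k • v = v) (F : Subgroup H) :
    cj k (F ⊓ stabilizer H v) = cj k F ⊓ stabilizer H v := by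
  ext x
  simp only [mem_cj, Subgroup.mem_inf, mem_stabilizer_iff, mul_smul, hk, inv_smul_eq_iff]

/-- Factors are conjugate under the stabilizer of a vector. -/
theorem Fam.exists_conj {v : V} (hv : v ≠ 0) {F F' : Subgroup H} (hF : IsFac T₀ F)
    (hF' : IsFac T₀ F') : ∃ k : H, k • v = v ∧ F' = cj k F := by
  obtain ⟨a, rfl⟩ := hF
  obtain ⟨b, rfl⟩ := hF'
  obtain ⟨m, hm, k, hk, he⟩ := A.set.exists_decomp A.ne_bot hv (b * a⁻¹)
  refine ⟨k, hk, ?_⟩
  have hmk : cj m (cj k (cj a T₀)) = cj b T₀ := by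
    rw [← cj_mul, ← he, ← cj_mul, inv_mul_cancel_right]
  rw [← hmk, (A.minIn (IsFac.conj (F := cj a T₀) ⟨a, rfl⟩ k)).cj_eq_self hm]

theorem Fam.card_stab {v : V} (hv : v ≠ 0) {F F' : Subgroup H} (hF : IsFac T₀ F)
    (hF' : IsFac T₀ F') :
    Nat.card (F' ⊓ stabilizer H v : Subgroup H) = Nat.card (F ⊓ stabilizer H v : Subgroup H) := by
  obtain ⟨k, hk, rfl⟩ := A.exists_conj hv hF hF'
  rw [← A.conj_stab_le hk, card_cj]

theorem Fam.stab_ne_bot {v : V} (hv : v ≠ 0) {F F' : Subgroup H} (hF : IsFac T₀ F)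
    (hF' : IsFac T₀ F') (h : F ⊓ stabilizer H v ≠ ⊥) : F' ⊓ stabilizer H v ≠ ⊥ := fun h' => by
  refine h (Subgroup.card_eq_one.1 ?_)
  rw [← A.card_stab hv hF hF', h', Subgroup.card_bot]

/-- No factor fixes a non-zero vector. -/
theorem Fam.not_le_stab {v : V} (hv : v ≠ 0) {F : Subgroup H} (hF : IsFac T₀ F) :
    ¬ F ≤ stabilizer H v := by
  intro h
  refine A.ne_bot (A.set.eq_bot_of_fix (K := M) hv fun m hm => ?_)
  have hle : Subgroup.closure {x : H | ∃ F, IsFac T₀ F ∧ x ∈ F} ≤ stabilizer H v := by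
    rw [Subgroup.closure_le]
    rintro x ⟨F', hF', hx⟩
    obtain ⟨k, hk, rfl⟩ := A.exists_conj hv hF hF'
    have h1 := h (mem_cj.1 hx)
    rw [mem_stabilizer_iff, mul_smul, mul_smul, hk, inv_smul_eq_iff, hk] at h1
    exact mem_stabilizer_iff.2 h1
  exact mem_stabilizer_iff.1 (hle (A.closure_eq.symm ▸ hm))

/-- A non-trivial stabilizer in a factor is self-normalising. -/
theorem Fam.self_norm {v : V} (hv : v ≠ 0) {F : Subgroup H} (hF : IsFac T₀ F)
    (hR : F ⊓ stabilizer H v ≠ ⊥) {x : H} (hx : x ∈ F)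
    (hn : cj x (F ⊓ stabilizer H v) = F ⊓ stabilizer H v) : x • v = v := by
  by_contra hxv
  let K : Subgroup H :=
    { carrier := {g | ∀ F', IsFac T₀ F' → cj g (F' ⊓ stabilizer H v) = cj g F' ⊓ stabilizer H v}
      one_mem' := fun F' _ => by rw [cj_one, cj_one]
      mul_mem' := fun {a b} ha hb F' hF' => by rw [cj_mul, cj_mul, hb F' hF', ha _ (hF'.conj b)]
      inv_mem' := fun {a} ha F' hF' => by
        have h := ha _ (hF'.conj a⁻¹)
        rw [← cj_mul, mul_inv_cancel, cj_one] at h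
        rw [← h, ← cj_mul, inv_mul_cancel, cj_one] }
  have hK : K = ⊤ := by
    refine (A.set.coat v hv).2 K (lt_of_le_of_ne
      (fun k hk F' _ => A.conj_stab_le (mem_stabilizer_iff.1 hk) F') fun h => hxv ?_)
    refine mem_stabilizer_iff.1 (h ▸ (fun F' hF' => ?_ : x ∈ K))
    rw [(A.minIn hF').cj_eq_self ((A.minIn hF).le hx)]
    by_cases he : F' = F
    · rw [he, hn]
    · ext y
      rw [mem_cj]
      have hc : ∀ z ∈ F', x⁻¹ * z * x = z := fun z hz => by
        rw [mul_assoc, ← (A.minIn hF).commute (A.minIn hF') (Ne.symm he) hx hz, inv_mul_cancel_left]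
      refine ⟨fun hy => ?_, fun hy => by rwa [hc y hy.1]⟩
      have h2 : y ∈ F' := by
        have := (A.minIn hF').norm x ((A.minIn hF).le hx) _ hy.1
        simpa [mul_assoc] using this
      rwa [hc y h2] at hy
  rcases A.normal_mem hF (L := F ⊓ stabilizer H v) inf_le_left (fun f hf y hy => by
    have h1 := (hK ▸ Subgroup.mem_top f : f ∈ K) F hF
    rw [(A.minIn hF).cj_eq_self ((A.minIn hF).le hf)] at h1
    exact h1 ▸ conj_mem_cj hy) with h | h
  · exact hR h
  · exact A.not_le_stab hv hF (h ▸ inf_le_right)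

end Cfsg.Agent.ExtremelyPrimitive
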