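/-
Extremely primitive affine groups, part 3: a vector whose stabilizer is diagonal.

If there are two factors `T₁`, `T₂`, a vector `u` with the largest stabilizer in a factor and
involutions `t₁`, `t₂` of the factors moving `u`, then `u + t₁ t₂ u` has a full diagonal stabilizer
and there are no other factors.
-/
import Cfsg.Agent.Lib.ExtremelyPrimitive.Factors

namespace Cfsg.Agent.ExtremelyPrimitive

open MulAction

set_option linter.unusedSectionVars false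

universe u v

variable {H : Type u} [Group H]

/-- Two factors and a vector with a largest stabilizer in a factor. -/
structure Conf (p : ℕ) (V : Type v) [AddCommGroup V] [DistribMulAction H V]
    (M T₀ T₁ T₂ : Subgroup H) (u : V) : Prop where
  fam : Fam p V M T₀
  fac₁ : IsFac T₀ T₁
  fac₂ : IsFac T₀ T₂
  ne : T₁ ≠ T₂
  u0 : u ≠ 0
  big : T₁ ⊓ stabilizer H u ≠ ⊥
  max : ∀ (x : V) (F : Subgroup H), x ≠ 0 → IsFac T₀ F →
    Nat.card (F ⊓ stabilizer H x : Subgroup H) ≤ Nat.card (T₁ ⊓ stabilizer H u : Subgroup H)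

variable {M : Subgroup H} [hM : M.Normal] [Finite H] {p : ℕ} {V : Type v} [AddCommGroup V]
  [Finite V] [DistribMulAction H V] {T₀ T₁ T₂ : Subgroup H} {u : V}
  (C : Conf p V M T₀ T₁ T₂ u)
include C

theorem Conf.big' {F : Subgroup H} (hF : IsFac T₀ F) : F ⊓ stabilizer H u ≠ ⊥ :=
  C.fam.stab_ne_bot C.u0 C.fac₁ hF C.big

theorem Conf.eq_of_le {F : Subgroup H} (hF : IsFac T₀ F) {x : V} (hx : x ≠ 0)
    (h : F ⊓ stabilizer H u ≤ stabilizer H x) :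
    F ⊓ stabilizer H x = F ⊓ stabilizer H u :=
  (Subgroup.eq_of_le_of_card_ge (le_inf inf_le_left h)
    (by rw [C.fam.card_stab C.u0 C.fac₁ hF]; exact C.max x F hx hF)).symm

/-- A vector fixed by two conjugate largest stabilizers is zero. -/
theorem Conf.pin {F : Subgroup H} (hF : IsFac T₀ F) {t : H} (ht : t ∈ F) (htu : t • u ≠ u) {z : V}
    (h1 : ∀ r ∈ F, r • u = u → r • z = z) (h2 : ∀ r ∈ F, r • u = u → (t * r * t⁻¹) • z = z) :
    z = 0 := by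
  by_contra hz
  have he := C.eq_of_le hF hz fun r hr => mem_stabilizer_iff.2 (h1 r hr.1 (mem_stabilizer_iff.1 hr.2))
  have hle : cj t (F ⊓ stabilizer H u) ≤ F ⊓ stabilizer H u := by
    intro y hy
    rw [← he]
    obtain ⟨r, hr, rfl⟩ := hy
    exact ⟨(C.fam.minIn hF).norm t ((C.fam.minIn hF).le ht) r hr.1,
      mem_stabilizer_iff.2 (h2 r hr.1 (mem_stabilizer_iff.1 hr.2))⟩
  exact htu (C.fam.self_norm C.u0 hF (C.big' hF) ht
    (Subgroup.eq_of_le_of_card_ge hle (by rw [card_cj])))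

omit C in
theorem diag_fix (A : Fam p V M T₀) {F F' : Subgroup H} (hF : IsFac T₀ F) (hF' : IsFac T₀ F')
    (hne : F ≠ F') {t t' : H} (ht : t ∈ F) (ht' : t' ∈ F') (h2 : t * t = 1) {x : V} (hx : x ≠ 0)
    (hR : F ⊓ stabilizer H x ≠ ⊥) (hfix : (t * t') • x = x) : t • x = x := by
  have h1 : t' • x = t • x := by
    conv_rhs => rw [← hfix, ← mul_smul, ← mul_assoc, h2, one_mul]
  have hti : t⁻¹ = t := inv_eq_of_mul_eq_one_right h2
  refine A.self_norm hx hF hR ht (Subgroup.eq_of_le_of_card_ge ?_ (by rw [card_cj]))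
  rintro y ⟨r, hr, rfl⟩
  refine ⟨(A.minIn hF).norm t ((A.minIn hF).le ht) r hr.1, mem_stabilizer_iff.2 ?_⟩
  show (t * r * t⁻¹) • x = x
  rw [hti, mul_smul, mul_smul, ← h1, ← mul_smul r, (A.minIn hF).commute (A.minIn hF') hne hr.1 ht',
    mul_smul, mem_stabilizer_iff.1 hr.2, h1, ← mul_smul, h2, one_smul]

/-- The elements of `F` that are projections of elements fixing `w`. -/
def proj (A : Fam p V M T₀) {F : Subgroup H} (hF : IsFac T₀ F) (w : V) : Subgroup H where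
  carrier := {a | a ∈ F ∧ ∃ c ∈ M, (∀ f ∈ F, f * c = c * f) ∧ (a * c) • w = w}
  one_mem' := ⟨one_mem F, 1, one_mem M, fun f _ => by simp, by simp⟩
  mul_mem' := fun {a b} ⟨ha, c, hc, hcF, hac⟩ ⟨hb, d, hd, hdF, hbd⟩ =>
    ⟨mul_mem ha hb, c * d, mul_mem hc hd, fun f hf => by
      rw [← mul_assoc, hcF f hf, mul_assoc, hdF f hf, mul_assoc], by
      have h1 : a * b * (c * d) = a * c * (b * d) := by
        calc a * b * (c * d) = a * (b * c) * d := by group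
          _ = a * (c * b) * d := by rw [hcF b hb]
          _ = a * c * (b * d) := by group
      rw [h1, mul_smul, hbd, hac]⟩
  inv_mem' := fun {a} ⟨ha, c, hc, hcF, hac⟩ => ⟨inv_mem ha, c⁻¹, inv_mem hc, fun f hf =>
    (Commute.inv_right (show Commute f c from hcF f hf)).eq, by
      rw [(Commute.inv_inv (show Commute a c from hcF a ha)).eq, ← mul_inv_rev, inv_smul_eq_iff, hac]⟩

omit C in
theorem mem_proj {A : Fam p V M T₀} {F : Subgroup H} {hF : IsFac T₀ F} {w : V} {a : H} :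
    a ∈ proj A hF w ↔ a ∈ F ∧ ∃ c ∈ M, (∀ f ∈ F, f * c = c * f) ∧ (a * c) • w = w := Iff.rfl

variable {t₁ t₂ : H} (h₁ : t₁ ∈ T₁) (h₂ : t₂ ∈ T₂) (h₁' : t₁ * t₁ = 1) (h₂' : t₂ * t₂ = 1)
  (hu₁ : t₁ • u ≠ u) (hu₂ : t₂ • u ≠ u)
include h₁ h₂

theorem Conf.comm₁₂ : t₁ * t₂ = t₂ * t₁ :=
  (C.fam.minIn C.fac₁).commute (C.fam.minIn C.fac₂) C.ne h₁ h₂

include hu₂

theorem Conf.stab_le {x : H} (hx : x ∈ T₁)
    (hw : x • (u + (t₁ * t₂) • u) = u + (t₁ * t₂) • u) : x • u = u := by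
  have hcom : ∀ r ∈ T₂, ∀ y ∈ T₁, y * r = r * y := fun r hr y hy =>
    (C.fam.minIn C.fac₁).commute (C.fam.minIn C.fac₂) C.ne hy hr
  rw [← sub_eq_zero]
  refine C.pin C.fac₂ h₂ hu₂ (fun r hr hru => ?_) fun r hr hru => ?_
  · rw [smul_sub, ← mul_smul, ← hcom r hr x hx, mul_smul, hru]
  · have hz : x • u - u = t₂ • (t₁ • u - x • t₁ • u) := by
      rw [smul_add] at hw
      rw [smul_sub, ← mul_smul, ← C.comm₁₂ h₁ h₂, ← mul_smul t₂ x, ← hcom t₂ h₂ x hx, mul_smul x t₂,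
        ← mul_smul t₂ t₁, ← C.comm₁₂ h₁ h₂, sub_eq_sub_iff_add_eq_add, hw, add_comm]
    have hfix : r • (t₁ • u - x • t₁ • u) = t₁ • u - x • t₁ • u := by
      rw [smul_sub, ← mul_smul, ← hcom r hr t₁ h₁, mul_smul, hru, ← mul_smul r x, ← hcom r hr x hx,
        mul_smul x r, ← mul_smul r t₁, ← hcom r hr t₁ h₁, mul_smul, hru]
    rw [hz, ← mul_smul, inv_mul_cancel_right, mul_smul, hfix]

include h₁' hu₁

theorem Conf.w_ne : u + (t₁ * t₂) • u ≠ 0 := by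
  intro h
  have h3 : (t₁ * t₂) • u = -u := eq_neg_of_add_eq_zero_right h
  by_cases h2 : u + u = 0
  · rw [neg_eq_iff_add_eq_zero.2 h2] at h3
    exact hu₁ (diag_fix C.fam C.fac₁ C.fac₂ C.ne h₁ h₂ h₁' C.u0 C.big h3)
  · exact C.fam.set.smul_ne_neg C.u0 h2 h3

include h₂'

theorem Conf.w_fix : (t₁ * t₂) • (u + (t₁ * t₂) • u) = u + (t₁ * t₂) • u := by
  have h : t₁ * t₂ * (t₁ * t₂) = 1 := by
    calc t₁ * t₂ * (t₁ * t₂) = t₁ * (t₂ * t₁) * t₂ := by group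
      _ = 1 := by rw [← C.comm₁₂ h₁ h₂, ← mul_assoc, h₁', one_mul, h₂']
  rw [smul_add, ← mul_smul, h, one_smul, add_comm]

theorem Conf.stab_w {F : Subgroup H} (hF : IsFac T₀ F) :
    F ⊓ stabilizer H (u + (t₁ * t₂) • u) = ⊥ := by
  by_contra h
  refine hu₁ (C.stab_le h₁ h₂ hu₂ h₁ ?_)
  exact diag_fix C.fam C.fac₁ C.fac₂ C.ne h₁ h₂ h₁' (C.w_ne h₁ h₂ h₁' hu₁ hu₂)
    (C.fam.stab_ne_bot (C.w_ne h₁ h₂ h₁' hu₁ hu₂) hF C.fac₁ h) (C.w_fix h₁ h₂ h₁' h₂' hu₁ hu₂)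

theorem Conf.two {F : Subgroup H} (hF : IsFac T₀ F) : F = T₁ ∨ F = T₂ := by
  by_contra hc
  push Not at hc
  refine C.big' hF (le_bot_iff.1 ?_)
  rw [← C.stab_w h₁ h₂ h₁' h₂' hu₁ hu₂ hF]
  intro r hr
  refine ⟨hr.1, mem_stabilizer_iff.2 ?_⟩
  have e1 := (C.fam.minIn hF).commute (C.fam.minIn C.fac₁) hc.1 hr.1 h₁
  have e2 := (C.fam.minIn hF).commute (C.fam.minIn C.fac₂) hc.2 hr.1 h₂
  rw [smul_add, ← mul_smul, ← mul_assoc, e1, mul_assoc, e2, ← mul_assoc, mul_smul _ r,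
    mem_stabilizer_iff.1 hr.2]

theorem Conf.mem_M {m : H} (hm : m ∈ M) : ∃ a ∈ T₁, ∃ b ∈ T₂, m = a * b := by
  have hnorm : T₁ ≤ Subgroup.normalizer (T₂ : Set H) := fun a ha =>
    Subgroup.mem_normalizer_iff.2 fun y => by
      refine ⟨fun hy => (C.fam.minIn C.fac₂).norm a ((C.fam.minIn C.fac₁).le ha) y hy, fun hy => ?_⟩
      have := (C.fam.minIn C.fac₂).norm a⁻¹ (inv_mem ((C.fam.minIn C.fac₁).le ha)) _ hy
      simpa [mul_assoc] using this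
  have hle : M ≤ T₁ ⊔ T₂ := by
    intro x hx
    rw [← C.fam.closure_eq] at hx
    refine (Subgroup.closure_le _).2 ?_ hx
    rintro y ⟨F, hF, hy⟩
    rcases C.two h₁ h₂ h₁' h₂' hu₁ hu₂ hF with rfl | rfl
    exacts [Subgroup.mem_sup_left hy, Subgroup.mem_sup_right hy]
  have h := hle hm
  rw [← SetLike.mem_coe, Subgroup.coe_mul_of_left_le_normalizer_right _ _ hnorm, Set.mem_mul] at h
  obtain ⟨a, ha, b, hb, rfl⟩ := h
  exact ⟨a, ha, b, hb, rfl⟩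

theorem Conf.eq_of_mul_eq {a b a' b' : H} (ha : a ∈ T₁) (hb : b ∈ T₂) (ha' : a' ∈ T₁)
    (hb' : b' ∈ T₂) (h : a * b = a' * b') : a = a' := by
  have h1 : a'⁻¹ * a ∈ T₁ := mul_mem (inv_mem ha') ha
  have h2 : a'⁻¹ * a ∈ T₂ := by
    rw [show a'⁻¹ * a = b' * b⁻¹ by rw [eq_mul_inv_iff_mul_eq, mul_assoc, h, inv_mul_cancel_left]]
    exact mul_mem hb' (inv_mem hb)
  have := C.fam.eq_one_of_central C.fac₁ h1 fun f hf =>
    (C.fam.minIn C.fac₁).commute (C.fam.minIn C.fac₂) C.ne hf h2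
  exact (inv_mul_eq_one.1 this).symm

/-- The stabilizer of `u + t₁ t₂ u` is a full diagonal. -/
theorem Conf.diag {x : H} (hx : x ∈ T₁) :
    ∃ y ∈ T₂, (x * y) • (u + (t₁ * t₂) • u) = u + (t₁ * t₂) • u := by
  set w := u + (t₁ * t₂) • u with hw
  set N₁ := proj C.fam C.fac₁ w
  set N₂ := proj C.fam C.fac₂ w
  have hN₁ : N₁ ≤ T₁ := fun a ha => ha.1
  have hN₂ : N₂ ≤ T₂ := fun a ha => ha.1
  have hnorm₁ : N₁ ≤ Subgroup.normalizer (N₂ : Set H) := fun a ha =>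
    Subgroup.mem_normalizer_iff.2 fun y => by
      have hc : ∀ z ∈ T₂, a * z * a⁻¹ = z := fun z hz => by
        rw [(C.fam.minIn C.fac₁).commute (C.fam.minIn C.fac₂) C.ne (hN₁ ha) hz, mul_inv_cancel_right]
      refine ⟨fun hy => by rwa [hc y (hN₂ hy)], fun hy => ?_⟩
      have h2 : y ∈ T₂ := by
        have := (C.fam.minIn C.fac₂).norm a⁻¹ (inv_mem ((C.fam.minIn C.fac₁).le (hN₁ ha))) _ (hN₂ hy)
        simpa [mul_assoc] using this
      rwa [hc y h2] at hy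
  set N := N₁ ⊔ N₂
  have hconj : ∀ k : H, k • w = w → ∀ {F : Subgroup H} (hF : IsFac T₀ F), ∀ a ∈ proj C.fam hF w,
      k * a * k⁻¹ ∈ N := by
    intro k hk F hF a ha
    obtain ⟨ha, c, hc, hcF, hac⟩ := ha
    have hmem : k * a * k⁻¹ ∈ proj C.fam (hF.conj k) w := by
      refine ⟨conj_mem_cj ha, k * c * k⁻¹, hM.conj_mem c hc k, fun f hf => ?_, ?_⟩
      · have h1 := hcF _ (mem_cj.1 hf)
        calc f * (k * c * k⁻¹) = k * ((k⁻¹ * f * k) * c) * k⁻¹ := by group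
          _ = k * (c * (k⁻¹ * f * k)) * k⁻¹ := by rw [h1]
          _ = k * c * k⁻¹ * f := by group
      · rw [conj_mul, mul_smul, mul_smul, inv_smul_eq_iff.2 hk.symm, hac, hk]
    rcases C.two h₁ h₂ h₁' h₂' hu₁ hu₂ (hF.conj k) with h | h
    · exact Subgroup.mem_sup_left (show k * a * k⁻¹ ∈ N₁ by
        simp only [N₁, mem_proj] at hmem ⊢; rwa [h] at hmem)
    · exact Subgroup.mem_sup_right (show k * a * k⁻¹ ∈ N₂ by
        simp only [N₂, mem_proj] at hmem ⊢; rwa [h] at hmem)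
  have hsn : stabilizer H w ≤ Subgroup.normalizer (N : Set H) := by
    have key : ∀ k : H, k • w = w → ∀ a ∈ N, k * a * k⁻¹ ∈ N := by
      intro k hk a ha
      rw [← SetLike.mem_coe, Subgroup.coe_mul_of_left_le_normalizer_right _ _ hnorm₁,
        Set.mem_mul] at ha
      obtain ⟨a₁, ha₁, a₂, ha₂, rfl⟩ := ha
      rw [← conj_mul]
      exact mul_mem (hconj k hk C.fac₁ a₁ ha₁) (hconj k hk C.fac₂ a₂ ha₂)
    intro k hk
    refine Subgroup.mem_normalizer_iff.2 fun a => ⟨key k (mem_stabilizer_iff.1 hk) a, fun ha => ?_⟩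
    have := key k⁻¹ (inv_smul_eq_iff.2 (mem_stabilizer_iff.1 hk).symm) _ ha
    simpa [mul_assoc] using this
  have htop : stabilizer H w ⊔ N = ⊤ := by
    refine (C.fam.set.coat w (C.w_ne h₁ h₂ h₁' hu₁ hu₂)).2 _ (lt_of_le_of_ne le_sup_left fun h => ?_)
    have h1 : t₁ ∈ N₁ := ⟨h₁, t₂, (C.fam.minIn C.fac₂).le h₂, fun f hf =>
      (C.fam.minIn C.fac₁).commute (C.fam.minIn C.fac₂) C.ne hf h₂, C.w_fix h₁ h₂ h₁' h₂' hu₁ hu₂⟩
    have h2 : t₁ ∈ T₁ ⊓ stabilizer H w :=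
      ⟨h₁, h ▸ Subgroup.mem_sup_right (Subgroup.mem_sup_left h1)⟩
    rw [C.stab_w h₁ h₂ h₁' h₂' hu₁ hu₂ C.fac₁, Subgroup.mem_bot] at h2
    exact hu₁ (by rw [h2, one_smul])
  have hx' : x ∈ stabilizer H w ⊔ N := htop ▸ Subgroup.mem_top x
  rw [← SetLike.mem_coe, Subgroup.coe_mul_of_left_le_normalizer_right _ _ hsn, Set.mem_mul] at hx'
  obtain ⟨k, hk, n, hn, hkn⟩ := hx'
  rw [Subgroup.coe_mul_of_left_le_normalizer_right _ _ hnorm₁, Set.mem_mul] at hn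
  obtain ⟨n₁, hn₁, n₂, hn₂, hn⟩ := hn
  have hnM : n ∈ M :=
    hn ▸ mul_mem ((C.fam.minIn C.fac₁).le (hN₁ hn₁)) ((C.fam.minIn C.fac₂).le (hN₂ hn₂))
  have hkM : k ∈ M := by
    rw [show k = x * n⁻¹ by rw [← hkn, mul_inv_cancel_right]]
    exact mul_mem ((C.fam.minIn C.fac₁).le hx) (inv_mem hnM)
  obtain ⟨a, ha, b, hb, rfl⟩ := C.mem_M h₁ h₂ h₁' h₂' hu₁ hu₂ hkM
  have ha₁ : a ∈ N₁ := ⟨ha, b, (C.fam.minIn C.fac₂).le hb, fun f hf =>
    (C.fam.minIn C.fac₁).commute (C.fam.minIn C.fac₂) C.ne hf hb, mem_stabilizer_iff.1 hk⟩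
  have e : (a * n₁) * (b * n₂) = x * 1 := by
    rw [mul_one, ← hkn, ← hn]
    calc (a * n₁) * (b * n₂) = a * (n₁ * b) * n₂ := by group
      _ = a * (b * n₁) * n₂ := by
        rw [(C.fam.minIn C.fac₁).commute (C.fam.minIn C.fac₂) C.ne (hN₁ hn₁) hb]
      _ = a * b * (n₁ * n₂) := by group
  have hxN : x ∈ N₁ := C.eq_of_mul_eq h₁ h₂ h₁' h₂' hu₁ hu₂ (mul_mem ha (hN₁ hn₁))
    (mul_mem hb (hN₂ hn₂)) hx (one_mem _) e ▸ mul_mem ha₁ hn₁
  obtain ⟨-, c, hc, hcT, hxc⟩ := hxN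
  obtain ⟨c₁, hc₁, c₂, hc₂, rfl⟩ := C.mem_M h₁ h₂ h₁' h₂' hu₁ hu₂ hc
  have hc1 : c₁ = 1 := C.fam.eq_one_of_central C.fac₁ hc₁ fun f hf => by
    have h1 := hcT f hf
    rw [mul_assoc c₁, ← (C.fam.minIn C.fac₁).commute (C.fam.minIn C.fac₂) C.ne hf hc₂, ← mul_assoc,
      ← mul_assoc] at h1
    exact mul_right_cancel h1
  exact ⟨c₂, hc₂, by rwa [hc1, one_mul] at hxc⟩

end Cfsg.Agent.ExtremelyPrimitive
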