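/-
Extremely primitive affine groups, part 4: the diagonal vector gives a representation of a factor in
two dimensions over a field, which is impossible.
-/
import Cfsg.Agent.Lib.ExtremelyPrimitive.Diag

namespace Cfsg.Agent.ExtremelyPrimitive

open MulAction

set_option linter.unusedSectionVars false

universe u v

variable {H : Type u} [Group H] {V : Type v} [AddCommGroup V] [DistribMulAction H V]

/-- An irreducible invariant subgroup. -/
structure Irr (K : Subgroup H) (U : AddSubgroup V) : Prop where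
  inv : ∀ k ∈ K, ∀ u ∈ U, k • u ∈ U
  ne_bot : U ≠ ⊥
  min : ∀ W : AddSubgroup V, W ≤ U → (∀ k ∈ K, ∀ u ∈ W, k • u ∈ W) → W ≠ ⊥ → W = U

/-- Endomorphisms of `U` commuting with `K`. -/
def cRing (K : Subgroup H) (U : AddSubgroup V) : Subring (AddMonoid.End U) where
  carrier := {f | ∀ k ∈ K, ∀ a b : U, (b : V) = k • (a : V) → (f b : V) = k • (f a : V)}
  mul_mem' := fun {f g} hf hg k hk a b h => hf k hk (g a) (g b) (hg k hk a b h)
  one_mem' := fun _ _ _ _ h => h
  add_mem' := fun {f g} hf hg k hk a b h => by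
    show ((f b : U) : V) + (g b : U) = k • (((f a : U) : V) + (g a : U))
    rw [smul_add, hf k hk a b h, hg k hk a b h]
  zero_mem' := fun _ _ _ _ _ => by simp
  neg_mem' := fun {f} hf k hk a b h => by
    show -((f b : U) : V) = k • -((f a : U) : V)
    rw [smul_neg, hf k hk a b h]

variable [Finite V] {K : Subgroup H} {U : AddSubgroup V}

theorem Irr.isField (h : Irr K U) : IsField (cRing K U) := by
  have hnt : Nontrivial U := (AddSubgroup.nontrivial_iff_ne_bot U).2 h.ne_bot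
  have hA : ∀ f ∈ cRing K U, f ≠ 0 → ∀ u : U, f u = 0 → u = 0 := by
    intro f hf hf0 u hu
    let W : AddSubgroup V := (AddMonoidHom.ker (f : U →+ U)).map U.subtype
    have hW : W ≤ U := fun w hw => by
      obtain ⟨w', -, rfl⟩ := AddSubgroup.mem_map.1 hw
      exact w'.2
    by_contra hu0
    have hWU : W = U := h.min W hW (fun k hk w hw => by
      obtain ⟨w', hw', rfl⟩ := AddSubgroup.mem_map.1 hw
      refine AddSubgroup.mem_map.2 ⟨⟨k • (w' : V), h.inv k hk _ w'.2⟩, ?_, rfl⟩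
      have hw'' : f w' = 0 := hw'
      show f _ = 0
      refine Subtype.ext ?_
      rw [hf k hk w' _ rfl, hw'']
      exact smul_zero k) fun hb => hu0
        (Subtype.ext (AddSubgroup.mem_bot.1 (hb ▸ AddSubgroup.mem_map.2 ⟨u, hu, rfl⟩)))
    refine hf0 (DFunLike.ext _ _ fun x => ?_)
    obtain ⟨x', hx', he⟩ := AddSubgroup.mem_map.1 (hWU.symm ▸ x.2 : (x : V) ∈ W)
    rw [show x = x' from (Subtype.ext he).symm]
    exact hx'
  have : Nontrivial (cRing K U) := ⟨⟨1, 0, fun h' => by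
    obtain ⟨u, hu⟩ := exists_ne (0 : U)
    exact hu (DFunLike.congr_fun (congrArg Subtype.val h') u)⟩⟩
  have : NoZeroDivisors (cRing K U) := ⟨fun {f g} hfg => by
    by_contra hc
    push Not at hc
    exact hc.2 (Subtype.ext (DFunLike.ext _ _ fun x => hA f f.2 (fun h => hc.1 (Subtype.ext h)) _
      (DFunLike.congr_fun (congrArg Subtype.val hfg) x)))⟩
  have : IsDomain (cRing K U) := NoZeroDivisors.to_isDomain _
  have : Finite (AddMonoid.End U) :=
    Finite.of_injective (fun f => (f : U → U)) DFunLike.coe_injective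
  exact Finite.isDomain_to_isField _

/-- Elements centralising `K` act commutatively on `U`. -/
theorem Irr.comm (h : Irr K U) {a b : H} (ha : ∀ k ∈ K, a * k = k * a) (hb : ∀ k ∈ K, b * k = k * b)
    (haU : ∀ u ∈ U, a • u ∈ U) (hbU : ∀ u ∈ U, b • u ∈ U) {u : V} (hu : u ∈ U) :
    a • b • u = b • a • u := by
  let mk : ∀ c : H, (∀ k ∈ K, c * k = k * c) → (∀ u ∈ U, c • u ∈ U) → cRing K U := fun c hc hcU =>
    ⟨{ toFun := fun u => ⟨c • (u : V), hcU _ u.2⟩
       map_zero' := Subtype.ext (smul_zero _)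
       map_add' := fun x y => Subtype.ext (smul_add _ _ _) }, fun k hk x y hxy => by
      show c • (y : V) = k • c • (x : V)
      rw [hxy, ← mul_smul, hc k hk, mul_smul]⟩
  have h1 := h.isField.mul_comm (mk a ha haU) (mk b hb hbU)
  exact congrArg Subtype.val (DFunLike.congr_fun (congrArg Subtype.val h1) ⟨u, hu⟩)

variable {M : Subgroup H} [hM : M.Normal] [Finite H] {p : ℕ} {T₀ T₁ T₂ : Subgroup H} {u : V}

theorem Conf.false (C : Conf p V M T₀ T₁ T₂ u) {B : AddSubgroup V} (hB : Irr T₂ B) (huB : u ∈ B)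
    (hfix : ∀ r ∈ T₁, r • u = u → ∀ b ∈ B, r • b = b) : False := by
  classical
  obtain ⟨t₁, h₁, h₁', hu₁⟩ := C.fam.exists_invol C.fac₁ (C.fam.not_le_stab C.u0 C.fac₁)
  obtain ⟨t₂, h₂, h₂', hu₂⟩ := C.fam.exists_invol C.fac₂ (C.fam.not_le_stab C.u0 C.fac₂)
  rw [mem_stabilizer_iff] at hu₁ hu₂
  have hcom : ∀ {x : H}, x ∈ T₁ → ∀ k ∈ T₂, x * k = k * x := fun hx k hk =>
    (C.fam.minIn C.fac₁).commute (C.fam.minIn C.fac₂) C.ne hx hk
  have hcom' : ∀ {x : H}, x ∈ T₁ → ∀ {k}, k ∈ T₂ → ∀ z : V, x • k • z = k • x • z :=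
    fun hx k hk z => by rw [← mul_smul, hcom hx k hk, mul_smul]
  set w := u + (t₁ * t₂) • u with hw
  have hw0 := C.w_ne h₁ h₂ h₁' hu₁ hu₂
  have hwR : ∀ x ∈ T₁, x • w = w → x = 1 := fun x hx hxw =>
    Subgroup.mem_bot.1 (C.stab_w h₁ h₂ h₁' h₂' hu₁ hu₂ C.fac₁ ▸
      (⟨hx, mem_stabilizer_iff.2 hxw⟩ : x ∈ T₁ ⊓ stabilizer H w))
  have hT₁ : ¬ ∀ a ∈ T₁, ∀ b ∈ T₁, a * b = b * a := fun h =>
    C.fam.not_comm C.fac₁ ⟨⟨fun a b => Subtype.ext (h a a.2 b b.2)⟩⟩
  -- the two lines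
  set B' := B.map (DistribSMul.toAddMonoidHom V t₁) with hB'
  have hdisj : ∀ p q : V, p ∈ B → q ∈ B → p = t₁ • q → p = 0 := by
    intro p q hp hq he
    by_contra hp0
    let L : AddSubgroup V := B ⊓ B'
    have hL : L = B := hB.min L inf_le_left (fun k hk z hz => by
      refine ⟨hB.inv k hk z hz.1, ?_⟩
      obtain ⟨z', hz', rfl⟩ := AddSubgroup.mem_map.1 hz.2
      exact AddSubgroup.mem_map.2 ⟨k • z', hB.inv k hk z' hz', hcom' h₁ hk z'⟩)
      fun hb => hp0 (AddSubgroup.mem_bot.1 (hb ▸ (⟨hp, AddSubgroup.mem_map.2 ⟨q, hq, he.symm⟩⟩ :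
        p ∈ L)))
    obtain ⟨z, hz, hzu⟩ := AddSubgroup.mem_map.1 (hL.symm ▸ huB : u ∈ L).2
    have hzu' : t₁ • z = u := hzu
    have hti : t₁⁻¹ = t₁ := inv_eq_of_mul_eq_one_right h₁'
    refine hu₁ (C.fam.self_norm C.u0 C.fac₁ C.big h₁ (Subgroup.eq_of_le_of_card_ge ?_
      (by rw [card_cj])))
    rintro y ⟨r, hr, rfl⟩
    refine ⟨(C.fam.minIn C.fac₁).norm t₁ ((C.fam.minIn C.fac₁).le h₁) r hr.1,
      mem_stabilizer_iff.2 ?_⟩
    show (t₁ * r * t₁⁻¹) • u = u
    rw [← hzu', mul_smul, inv_smul_smul, mul_smul, hfix r hr.1 (mem_stabilizer_iff.1 hr.2) z hz]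
  have huniq : ∀ p q p' q' : V, p ∈ B → q ∈ B → p' ∈ B → q' ∈ B →
      p + t₁ • q = p' + t₁ • q' → p = p' ∧ q = q' := by
    intro p q p' q' hp hq hp' hq' he
    have h1 : p - p' = t₁ • (q' - q) := by
      rw [smul_sub, sub_eq_sub_iff_add_eq_add, he, add_comm]
    have h2 := hdisj _ _ (sub_mem hp hp') (sub_mem hq' hq) h1
    rw [h2, eq_comm, smul_eq_zero_iff_eq, sub_eq_zero] at h1
    exact ⟨sub_eq_zero.1 h2, h1.symm⟩
  let W : AddSubgroup V :=
    { carrier := {z | ∃ p ∈ B, ∃ q ∈ B, z = p + t₁ • q}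
      zero_mem' := ⟨0, zero_mem _, 0, zero_mem _, by simp⟩
      add_mem' := by
        rintro _ _ ⟨p, hp, q, hq, rfl⟩ ⟨p', hp', q', hq', rfl⟩
        exact ⟨p + p', add_mem hp hp', q + q', add_mem hq hq', by rw [smul_add]; abel⟩
      neg_mem' := by
        rintro _ ⟨p, hp, q, hq, rfl⟩
        exact ⟨-p, neg_mem hp, -q, neg_mem hq, by rw [smul_neg]; abel⟩ }
  let Z := AddSubgroup.closure {z : V | ∃ g ∈ T₂, g • w = z}
  have hZT₂ : ∀ k ∈ T₂, ∀ z ∈ Z, k • z ∈ Z := by
    intro k hk z hz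
    induction hz using AddSubgroup.closure_induction with
    | mem x hx =>
      obtain ⟨g, hg, rfl⟩ := hx
      exact AddSubgroup.subset_closure ⟨k * g, mul_mem hk hg, mul_smul k g w⟩
    | zero => rw [smul_zero]; exact zero_mem _
    | add x y _ _ hx hy => rw [smul_add]; exact add_mem hx hy
    | neg x _ hx => rw [smul_neg]; exact neg_mem hx
  have hZT₁ : ∀ x ∈ T₁, ∀ z ∈ Z, x • z ∈ Z := by
    intro x hx z hz
    induction hz using AddSubgroup.closure_induction with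
    | mem z hz =>
      obtain ⟨g, hg, rfl⟩ := hz
      obtain ⟨y, hy, hxy⟩ := C.diag h₁ h₂ h₁' h₂' hu₁ hu₂ hx
      rw [← hw, hcom hx y hy, mul_smul] at hxy
      have : x • w = y⁻¹ • w := eq_inv_smul_iff.2 hxy
      rw [hcom' hx hg, this, ← mul_smul]
      exact AddSubgroup.subset_closure ⟨_, mul_mem hg (inv_mem hy), rfl⟩
    | zero => rw [smul_zero]; exact zero_mem _
    | add a b _ _ ha hb => rw [smul_add]; exact add_mem ha hb
    | neg a _ ha => rw [smul_neg]; exact neg_mem ha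
  have hwZ : w ∈ Z := AddSubgroup.subset_closure ⟨1, one_mem _, one_smul H w⟩
  have hZW : Z ≤ W := by
    rw [AddSubgroup.closure_le]
    rintro _ ⟨g, hg, rfl⟩
    refine ⟨g • u, hB.inv g hg u huB, (g * t₂) • u, hB.inv _ (mul_mem hg h₂) u huB, ?_⟩
    rw [hw, smul_add, mul_smul g, mul_smul t₁, hcom' h₁ hg]
  -- `B` lies in `Z`
  have hBZ : B ≤ Z := by
    by_contra hne
    have hBZ0 : ∀ z, z ∈ B → z ∈ Z → z = 0 := fun z hz hz' => by
      by_contra h0
      have hmin : B ⊓ Z = B := hB.min (B ⊓ Z) inf_le_left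
        (fun k hk a ha => ⟨hB.inv k hk a ha.1, hZT₂ k hk a ha.2⟩)
        (fun hb' => h0 (AddSubgroup.mem_bot.1 (le_of_eq hb' (⟨hz, hz'⟩ : z ∈ B ⊓ Z))))
      exact hne fun b hb => (le_of_eq hmin.symm hb).2
    have hirr : Irr T₂ Z := by
      refine ⟨hZT₂, fun h => hw0 (AddSubgroup.mem_bot.1 (h ▸ hwZ)), fun Z' hle hinv hne' => ?_⟩
      let L : AddSubgroup V :=
        { carrier := {q | q ∈ B ∧ ∃ p ∈ B, p + t₁ • q ∈ Z'}
          zero_mem' := ⟨zero_mem _, 0, zero_mem _, by simp⟩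
          add_mem' := by
            rintro a b ⟨ha, p, hp, hpa⟩ ⟨hb, p', hp', hpb⟩
            refine ⟨add_mem ha hb, p + p', add_mem hp hp', ?_⟩
            have := add_mem hpa hpb
            rwa [add_add_add_comm, ← smul_add] at this
          neg_mem' := by
            rintro a ⟨ha, p, hp, hpa⟩
            refine ⟨neg_mem ha, -p, neg_mem hp, ?_⟩
            have := neg_mem hpa
            rwa [neg_add, ← smul_neg] at this }
      have hL : L = B := hB.min L (fun q hq => hq.1) (fun k hk q ⟨hq, p, hp, hpq⟩ =>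
        ⟨hB.inv k hk q hq, k • p, hB.inv k hk p hp, by
          rw [hcom' h₁ hk, ← smul_add]; exact hinv k hk _ hpq⟩) fun hb => hne' (by
        rw [AddSubgroup.eq_bot_iff_forall]
        intro z hz
        obtain ⟨p, hp, q, hq, rfl⟩ := hZW (hle hz)
        have hq0 := AddSubgroup.mem_bot.1 (le_of_eq hb (⟨hq, p, hp, hz⟩ : q ∈ L))
        rw [hq0, smul_zero, add_zero] at hz ⊢
        exact hBZ0 p hp (hle hz))
      refine le_antisymm hle fun z hz => ?_
      obtain ⟨p, hp, q, hq, rfl⟩ := hZW hz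
      obtain ⟨-, p', hp', hpq⟩ := (hL.symm ▸ hq : q ∈ L)
      have h0 := hBZ0 (p - p') (sub_mem hp hp') (by
        have := sub_mem hz (hle hpq)
        rwa [add_sub_add_right_eq_sub] at this)
      rwa [sub_eq_zero.1 h0]
    refine hT₁ fun a ha b hb => ?_
    have h1 := hirr.comm (hcom ha) (hcom hb) (hZT₁ a ha) (hZT₁ b hb) hwZ
    refine (inv_mul_eq_one.1 (hwR _ (mul_mem (inv_mem (mul_mem hb ha)) (mul_mem ha hb)) ?_)).symm
    rw [mul_smul, inv_smul_eq_iff, mul_smul, mul_smul, h1]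
  -- coefficients over the commutant of `T₂` on `B`
  have hrep : ∀ x ∈ T₁, ∀ z : V, (z ∈ B ∨ ∃ b ∈ B, z = t₁ • b) → x • z ∈ W := by
    rintro x hx z (hz | ⟨b, hb, rfl⟩)
    · exact hZW (hZT₁ x hx z (hBZ hz))
    · exact hZW (hZT₁ x hx _ (hZT₁ t₁ h₁ b (hBZ hb)))
  let e : B × B → V := fun z => (z.1 : V) + t₁ • (z.2 : V)
  have heinj : Function.Injective e := by
    rintro ⟨⟨a, ha⟩, ⟨b, hb⟩⟩ ⟨⟨a', ha'⟩, ⟨b', hb'⟩⟩ he
    obtain ⟨rfl, rfl⟩ := huniq a b a' b' ha hb ha' hb' he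
    rfl
  let pr : V → B × B := Function.invFun e
  have hpr : ∀ z ∈ W, e (pr z) = z := by
    rintro z ⟨a, ha, b, hb, rfl⟩
    exact Function.invFun_eq ⟨(⟨a, ha⟩, ⟨b, hb⟩), rfl⟩
  have hpr' : ∀ (z : V) (c : B × B), z = e c → pr z = c := by
    rintro z c rfl
    exact Function.leftInverse_invFun heinj c
  have hpr_add : ∀ z ∈ W, ∀ z' ∈ W, pr (z + z') = pr z + pr z' := fun z hz z' hz' => by
    refine hpr' _ _ ?_
    have h1 := hpr z hz
    have h2 := hpr z' hz'
    simp only [e, Prod.fst_add, Prod.snd_add, AddSubgroup.coe_add, smul_add] at h1 h2 ⊢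
    rw [add_add_add_comm, h1, h2]
  have hpr_smul : ∀ k ∈ T₂, ∀ z ∈ W, ((pr (k • z)).1 : V) = k • ((pr z).1 : V) ∧
      ((pr (k • z)).2 : V) = k • ((pr z).2 : V) := fun k hk z hz => by
    have h1 : pr (k • z) =
        (⟨k • ((pr z).1 : V), hB.inv k hk _ (pr z).1.2⟩,
          ⟨k • ((pr z).2 : V), hB.inv k hk _ (pr z).2.2⟩) := hpr' _ _ (by
      show k • z = k • ((pr z).1 : V) + t₁ • k • ((pr z).2 : V)
      rw [hcom' h₁ hk, ← smul_add]
      exact congrArg (k • ·) (hpr z hz).symm)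
    rw [h1]
    exact ⟨rfl, rfl⟩
  let D := cRing T₂ B
  -- first and second coordinate of `x • t₁ ^ i • b`
  let mk : ∀ (φ : V → V), (∀ b ∈ B, φ b ∈ W) → (∀ a ∈ B, ∀ b ∈ B, φ (a + b) = φ a + φ b) →
      (∀ k ∈ T₂, ∀ b ∈ B, φ (k • b) = k • φ b) → (B × B →+ B) →
      {π : B × B →+ B // π = AddMonoidHom.fst B B ∨ π = AddMonoidHom.snd B B} → D :=
    fun φ hφ hadd hsm _ π => ⟨AddMonoidHom.mk' (fun b => π.1 (pr (φ b)))
      (fun a b => by
        rw [← map_add, ← hpr_add _ (hφ a a.2) _ (hφ b b.2), ← hadd a a.2 b b.2, AddSubgroup.coe_add]),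
      fun k hk a b hab => by
        show ((π.1 (pr (φ b)) : B) : V) = k • ((π.1 (pr (φ a)) : B) : V)
        rw [hab, hsm k hk a a.2]
        rcases π.2 with h | h <;> rw [h]
        exacts [(hpr_smul k hk _ (hφ a a.2)).1, (hpr_smul k hk _ (hφ a a.2)).2]⟩
  let col₁ : ∀ x ∈ T₁, {π : B × B →+ B // π = AddMonoidHom.fst B B ∨ π = AddMonoidHom.snd B B} → D :=
    fun x hx π => mk (fun b => x • b) (fun b hb => hrep x hx b (.inl hb))
      (fun a _ b _ => smul_add x a b) (fun k hk b _ => hcom' hx hk b) (AddMonoidHom.fst B B) π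
  let col₂ : ∀ x ∈ T₁, {π : B × B →+ B // π = AddMonoidHom.fst B B ∨ π = AddMonoidHom.snd B B} → D :=
    fun x hx π => mk (fun b => x • t₁ • b) (fun b hb => hrep x hx _ (.inr ⟨b, hb, rfl⟩))
      (fun a _ b _ => by simp only [smul_add]) (fun k hk b _ => by
        simp only [hcom' h₁ hk, hcom' hx hk]) (AddMonoidHom.fst B B) π
  let α : T₁ → D := fun x => col₁ x x.2 ⟨_, .inl rfl⟩
  let γ : T₁ → D := fun x => col₁ x x.2 ⟨_, .inr rfl⟩
  let β : T₁ → D := fun x => col₂ x x.2 ⟨_, .inl rfl⟩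
  let δ : T₁ → D := fun x => col₂ x x.2 ⟨_, .inr rfl⟩
  let ap : D → B → V := fun f b => (((f : AddMonoid.End B) b : B) : V)
  have hcol₁ : ∀ (x : T₁) (b : B), (x : H) • (b : V) = ap (α x) b + t₁ • ap (γ x) b :=
    fun x b => (hpr _ (hrep x x.2 b (.inl b.2))).symm
  have hcol₂ : ∀ (x : T₁) (b : B), (x : H) • t₁ • (b : V) = ap (β x) b + t₁ • ap (δ x) b :=
    fun x b => (hpr _ (hrep x x.2 _ (.inr ⟨b, b.2, rfl⟩))).symm
  have hext₁ : ∀ (x : T₁) (f g : D), (∀ b : B, (x : H) • (b : V) = ap f b + t₁ • ap g b) →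
      α x = f ∧ γ x = g := fun x f g h => by
    constructor <;> refine Subtype.ext (DFunLike.ext _ _ fun b => Subtype.ext ?_)
    · exact (huniq _ _ _ _ ((α x : AddMonoid.End B) b).2 ((γ x : AddMonoid.End B) b).2
        ((f : AddMonoid.End B) b).2 ((g : AddMonoid.End B) b).2 ((hcol₁ x b).symm.trans (h b))).1
    · exact (huniq _ _ _ _ ((α x : AddMonoid.End B) b).2 ((γ x : AddMonoid.End B) b).2
        ((f : AddMonoid.End B) b).2 ((g : AddMonoid.End B) b).2 ((hcol₁ x b).symm.trans (h b))).2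
  have hext₂ : ∀ (x : T₁) (f g : D), (∀ b : B, (x : H) • t₁ • (b : V) = ap f b + t₁ • ap g b) →
      β x = f ∧ δ x = g := fun x f g h => by
    constructor <;> refine Subtype.ext (DFunLike.ext _ _ fun b => Subtype.ext ?_)
    · exact (huniq _ _ _ _ ((β x : AddMonoid.End B) b).2 ((δ x : AddMonoid.End B) b).2
        ((f : AddMonoid.End B) b).2 ((g : AddMonoid.End B) b).2 ((hcol₂ x b).symm.trans (h b))).1
    · exact (huniq _ _ _ _ ((β x : AddMonoid.End B) b).2 ((δ x : AddMonoid.End B) b).2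
        ((f : AddMonoid.End B) b).2 ((g : AddMonoid.End B) b).2 ((hcol₂ x b).symm.trans (h b))).2
  have happ : ∀ (f g : D) (b : B), ap (f * g) b = ap f ((g : AddMonoid.End B) b) := fun f g b => rfl
  have hadd : ∀ (f g : D) (b : B), ap (f + g) b = ap f b + ap g b := fun f g b => rfl
  have hmul₁ : ∀ x y : T₁, α (x * y) = α x * α y + β x * γ y ∧
      γ (x * y) = γ x * α y + δ x * γ y := fun x y => hext₁ _ _ _ fun b => by
    rw [Subgroup.coe_mul, mul_smul, hcol₁ y b, smul_add, hcol₁ x, hcol₂ x, hadd, hadd, smul_add,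
      happ, happ, happ, happ]
    abel
  have hmul₂ : ∀ x y : T₁, β (x * y) = α x * β y + β x * δ y ∧
      δ (x * y) = γ x * β y + δ x * δ y := fun x y => hext₂ _ _ _ fun b => by
    rw [Subgroup.coe_mul, mul_smul, hcol₂ y b, smul_add, hcol₁ x, hcol₂ x, hadd, hadd, smul_add,
      happ, happ, happ, happ]
    abel
  have hone₁ : α 1 = 1 ∧ γ 1 = 0 := hext₁ 1 1 0 fun b => by simp [ap]
  have hone₂ : β 1 = 0 ∧ δ 1 = 1 := hext₂ 1 0 1 fun b => by simp [ap]
  have hmc : ∀ f g : D, f * g = g * f := hB.isField.mul_comm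
  let _ : CommRing D := { (inferInstance : Ring D) with mul_comm := hmc }
  let det : T₁ →* D :=
    { toFun := fun x => α x * δ x - β x * γ x
      map_one' := by rw [hone₁.1, hone₂.2, hone₂.1, hone₁.2]; ring
      map_mul' := fun x y => by
        rw [(hmul₁ x y).1, (hmul₁ x y).2, (hmul₂ x y).1, (hmul₂ x y).2]; ring }
  have := C.fam.isSimpleGroup C.fac₁
  have hdet : ∀ x : T₁, det x = 1 := by
    rcases (MonoidHom.normal_ker det.toHomUnits).eq_bot_or_eq_top with h | h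
    · refine absurd (fun a ha b hb => ?_) hT₁
      have := (MonoidHom.ker_eq_bot_iff det.toHomUnits).1 h
        (show det.toHomUnits ((⟨a, ha⟩ : T₁) * ⟨b, hb⟩) = det.toHomUnits (⟨b, hb⟩ * ⟨a, ha⟩) by
          rw [map_mul, map_mul, mul_comm])
      exact congrArg Subtype.val this
    · intro x
      have hx : det.toHomUnits x = 1 := (h ▸ Subgroup.mem_top x : x ∈ det.toHomUnits.ker)
      exact congrArg Units.val hx
  -- the stabilizer is elementary abelian
  have hR : ∀ r : T₁, (r : H) • u = u → ∀ b : B, (r : H) • (b : V) = b ∧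
      (r : H) • t₁ • (b : V) = ap (β r) b + t₁ • (b : V) := by
    intro r hr
    have h1 : α r = 1 ∧ γ r = 0 := hext₁ r 1 0 fun b => by
      rw [hfix r r.2 hr b b.2]; simp [ap]
    have h2 : δ r = 1 := by
      have := hdet r
      change α r * δ r - β r * γ r = 1 at this
      rwa [h1.1, h1.2, one_mul, mul_zero, sub_zero] at this
    intro b
    refine ⟨hfix r r.2 hr b b.2, ?_⟩
    rw [hcol₂, h2]
    rfl
  obtain ⟨bw, hbw, cw, hcw, hwsum⟩ := hZW hwZ
  have hact : ∀ r s : T₁, (r : H) • u = u → (s : H) • u = u → ∀ b : B,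
      (r : H) • (s : H) • t₁ • (b : V) = ap (β r) b + ap (β s) b + t₁ • (b : V) := by
    intro r s hr hs b
    rw [(hR s hs b).2, smul_add, (hR r hr b).2, hfix r r.2 hr _ ((β s : AddMonoid.End B) b).2]
    abel
  have hRcomm : ∀ r s : T₁, (r : H) • u = u → (s : H) • u = u → r * s = s * r := by
    intro r s hr hs
    refine (inv_mul_eq_one.1 (Subtype.ext (hwR _ ((s * r)⁻¹ * (r * s) : T₁).2 ?_) :
      (s * r)⁻¹ * (r * s) = 1)).symm
    simp only [Subgroup.coe_mul, Subgroup.coe_inv]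
    rw [mul_smul, inv_smul_eq_iff, mul_smul, mul_smul, hwsum, smul_add, smul_add, smul_add,
      smul_add, hfix s s.2 hs bw hbw, hfix r r.2 hr bw hbw, hfix s s.2 hs bw hbw,
      hact r s hr hs ⟨cw, hcw⟩, hact s r hs hr ⟨cw, hcw⟩]
    abel
  have htwo : ∀ b : B, (b : V) + b = 0 := by
    intro b
    let L : AddSubgroup V :=
      { carrier := {z | z ∈ B ∧ z + z = 0}
        zero_mem' := ⟨zero_mem _, add_zero 0⟩
        add_mem' := fun {a b} ha hb =>
          ⟨add_mem ha.1 hb.1, by rw [add_add_add_comm, ha.2, hb.2, add_zero]⟩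
        neg_mem' := fun {a} ha => ⟨neg_mem ha.1, by rw [← neg_add, ha.2, neg_zero]⟩ }
    have hL : L = B := by
      refine hB.min L (fun z hz => hz.1) (fun k hk z hz =>
        ⟨hB.inv k hk z hz.1, by rw [← smul_add, hz.2, smul_zero]⟩) fun hb => ?_
      obtain ⟨d, hd⟩ := C.fam.set.card
      rw [C.fam.set.p_eq_two] at hd
      obtain ⟨k, -, hk⟩ := (Nat.dvd_prime_pow Nat.prime_two).1
        (hd ▸ AddSubgroup.card_addSubgroup_dvd_card B)
      have h2 : 2 ∣ Nat.card B := by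
        rcases Nat.eq_zero_or_pos k with rfl | hk0
        · exact absurd (AddSubgroup.card_eq_one.1 (by simpa using hk)) hB.ne_bot
        · exact hk ▸ dvd_pow_self 2 hk0.ne'
      have := Fact.mk Nat.prime_two
      obtain ⟨z, hz⟩ := exists_prime_addOrderOf_dvd_card' 2 h2
      have hz0 : (z : V) = 0 := AddSubgroup.mem_bot.1 (hb ▸ (⟨z.2, by
        rw [← two_nsmul, ← AddSubmonoidClass.coe_nsmul, ← hz, addOrderOf_nsmul_eq_zero,
          ZeroMemClass.coe_zero]⟩ : (z : V) ∈ L))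
      rw [Subtype.ext (a2 := (0 : B)) hz0, addOrderOf_zero] at hz
      omega
    exact (hL.symm ▸ b.2 : (b : V) ∈ L).2
  have hRsq : ∀ r : T₁, (r : H) • u = u → r * r = 1 := fun r hr => by
    refine Subtype.ext (hwR _ (r * r).2 ?_)
    rw [Subgroup.coe_mul, mul_smul, hwsum, smul_add, smul_add, hfix r r.2 hr bw hbw,
      hfix r r.2 hr bw hbw, hact r r hr hr ⟨cw, hcw⟩, htwo ((β r : AddMonoid.End B) ⟨cw, hcw⟩),
      zero_add]
  -- a self-normalising abelian 2-subgroup contradicts Burnside's transfer theorem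
  let R : Subgroup T₁ := (T₁ ⊓ stabilizer H u).subgroupOf T₁
  have hmemR : ∀ r : T₁, r ∈ R ↔ (r : H) • u = u := fun r => by
    simp [R, Subgroup.mem_subgroupOf, mem_stabilizer_iff]
  have := Fact.mk Nat.prime_two
  have hR2 : IsPGroup 2 R := fun r =>
    ⟨1, Subtype.ext (by rw [pow_one, SubmonoidClass.coe_pow, sq]; exact hRsq r ((hmemR r).1 r.2))⟩
  have hself : ∀ x : T₁, (∀ r : T₁, r ∈ R ↔ x * r * x⁻¹ ∈ R) → x ∈ R := by
    intro x hx
    refine (hmemR x).2 (C.fam.self_norm C.u0 C.fac₁ C.big x.2 (Subgroup.eq_of_le_of_card_ge ?_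
      (by rw [card_cj])))
    rintro y ⟨r, hr, rfl⟩
    have h := (hmemR _).1 ((hx ⟨r, hr.1⟩).1 ((hmemR _).2 (mem_stabilizer_iff.1 hr.2)))
    exact ⟨(C.fam.minIn C.fac₁).norm x ((C.fam.minIn C.fac₁).le x.2) r hr.1,
      mem_stabilizer_iff.2 h⟩
  obtain ⟨P, hP⟩ := hR2.exists_le_sylow
  have hPR : (P : Subgroup T₁) = R := by
    refine le_antisymm (fun y hy => ?_) hP
    by_contra hyR
    have hne : R.subgroupOf (P : Subgroup T₁) < ⊤ :=
      lt_top_iff_ne_top.2 fun h => hyR (Subgroup.subgroupOf_eq_top.1 h hy)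
    have : Group.IsNilpotent (P : Subgroup T₁) := P.2.isNilpotent
    obtain ⟨x, hxn, hx⟩ :=
      SetLike.exists_of_lt (Group.normalizerCondition_of_isNilpotent _ hne)
    refine hx (Subgroup.mem_subgroupOf.2 (hself x fun r => ?_))
    refine ⟨fun hr => ?_, fun hr => ?_⟩
    · exact Subgroup.mem_subgroupOf.1
        ((Subgroup.mem_normalizer_iff.1 hxn ⟨r, hP hr⟩).1 (Subgroup.mem_subgroupOf.2 hr))
    · have hrP : r ∈ (P : Subgroup T₁) := by
        have := mul_mem (mul_mem (inv_mem x.2) (hP hr)) x.2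
        simpa [mul_assoc] using this
      exact Subgroup.mem_subgroupOf.1
        ((Subgroup.mem_normalizer_iff.1 hxn ⟨r, hrP⟩).2 (Subgroup.mem_subgroupOf.2 hr))
  have hcent : Subgroup.normalizer ((P : Subgroup T₁) : Set T₁) ≤
      Subgroup.centralizer ((P : Subgroup T₁) : Set T₁) := by
    intro x hx
    have hxR := hself x fun r => by rw [← hPR]; exact Subgroup.mem_normalizer_iff.1 hx r
    refine Subgroup.mem_centralizer_iff.2 fun r hr => ?_
    rw [SetLike.mem_coe, hPR] at hr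
    exact hRcomm r x ((hmemR r).1 hr) ((hmemR x).1 hxR)
  have hRbot : R ≠ ⊥ := fun h => C.big ((Subgroup.eq_bot_iff_forall _).2 fun r hr => by
    have h1 : (⟨r, hr.1⟩ : T₁) ∈ R := Subgroup.mem_subgroupOf.2 hr
    rw [h, Subgroup.mem_bot] at h1
    exact congrArg Subtype.val h1)
  have hcompl := MonoidHom.ker_transferSylow_isComplement' P hcent
  rcases (MonoidHom.normal_ker (MonoidHom.transferSylow P hcent)).eq_bot_or_eq_top with h | h
  · rw [h, Subgroup.isComplement'_bot_left, hPR] at hcompl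
    exact C.fam.not_le_stab C.u0 C.fac₁ fun x hx => mem_stabilizer_iff.2
      ((hmemR ⟨x, hx⟩).1 (hcompl ▸ Subgroup.mem_top _))
  · rw [h, Subgroup.isComplement'_top_left, hPR] at hcompl
    exact hRbot hcompl

end Cfsg.Agent.ExtremelyPrimitive
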