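/-
Extremely primitive affine groups, part 5: the point stabilizer is almost simple.
-/
import Cfsg.Agent.Lib.ExtremelyPrimitive.Plane

namespace Cfsg.Agent.ExtremelyPrimitive

open MulAction

set_option linter.unusedSectionVars false

universe u v

variable {H : Type u} [Group H] [Finite H] {p : ℕ} {V : Type v} [AddCommGroup V] [Finite V]
  [DistribMulAction H V]

/-- An insoluble irreducible linear group with maximal vector stabilizers is almost simple. -/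
theorem Setup.almostSimple (S : Setup p H V) :
    ∃ T : Subgroup H, T.Normal ∧ IsSimpleGroup T ∧ ¬ IsMulCommutative T ∧
      Subgroup.centralizer (T : Set H) = ⊥ := by
  classical
  have hne : (⊤ : Subgroup H) ≠ ⊥ := fun h => S.nsol (Group.isSolvable_of_comm fun a b => by
    rw [Subgroup.mem_bot.1 (le_of_eq h (Subgroup.mem_top a)),
      Subgroup.mem_bot.1 (le_of_eq h (Subgroup.mem_top b))])
  obtain ⟨M, ⟨hMn, hM1⟩, hMmin⟩ := Set.exists_min_image
    {L : Subgroup H | L.Normal ∧ L ≠ ⊥} (fun L => Nat.card L) (Set.toFinite _)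
    ⟨⊤, inferInstance, hne⟩
  have : M.Normal := hMn
  have hmin : ∀ L : Subgroup H, L.Normal → L ≤ M → L = ⊥ ∨ L = M := fun L hL hle =>
    or_iff_not_imp_left.2 fun h => Subgroup.eq_of_le_of_card_ge hle (hMmin L ⟨hL, h⟩)
  have hcent := S.centralizer_eq_bot (M := M) hM1 hmin
  obtain ⟨T₀, hT₀⟩ := exists_minIn (M := M) hM1
  have A : Fam p V M T₀ := ⟨S, hMn, hM1, hmin, hcent, hT₀⟩
  by_cases hall : ∀ F, IsFac T₀ F → F = T₀
  · have he : T₀ = M := by
      refine le_antisymm hT₀.le ?_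
      rw [← A.closure_eq, Subgroup.closure_le]
      rintro x ⟨F, hF, hx⟩
      exact hall F hF ▸ hx
    subst he
    exact ⟨T₀, hMn, A.isSimpleGroup A.fac_self, A.not_comm A.fac_self, hcent⟩
  exfalso
  push Not at hall
  obtain ⟨T', hT', hTne⟩ := hall
  -- a largest stabilizer in a factor
  obtain ⟨t, htT, ht2, htbot⟩ := A.exists_invol A.fac_self (L := ⊥)
    fun h => hT₀.ne_bot (le_bot_iff.1 h)
  obtain ⟨v₀, hv₀, htv₀⟩ := S.exists_fixed ht2
  obtain ⟨⟨v, F⟩, ⟨hv, hF⟩, hmax⟩ := Set.exists_max_image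
    {z : V × Subgroup H | z.1 ≠ 0 ∧ IsFac T₀ z.2}
    (fun z => Nat.card (z.2 ⊓ stabilizer H z.1 : Subgroup H)) (Set.toFinite _)
    ⟨(v₀, T₀), hv₀, A.fac_self⟩
  have hmax' : ∀ (x : V) (L : Subgroup H), x ≠ 0 → IsFac T₀ L →
      Nat.card (L ⊓ stabilizer H x : Subgroup H) ≤ Nat.card (F ⊓ stabilizer H v : Subgroup H) :=
    fun x L hx hL => hmax (x, L) ⟨hx, hL⟩
  have hbig : F ⊓ stabilizer H v ≠ ⊥ := by
    intro h
    have h0 : T₀ ⊓ stabilizer H v₀ ≠ ⊥ := fun h' =>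
      htbot (le_of_eq h' ⟨htT, mem_stabilizer_iff.2 htv₀⟩)
    have h1 := hmax' v₀ T₀ hv₀ A.fac_self
    rw [h, Subgroup.card_bot] at h1
    exact h0 (Subgroup.card_eq_one.1 (le_antisymm h1 Nat.card_pos))
  obtain ⟨T₂, hT₂, hT₂F⟩ : ∃ T₂, IsFac T₀ T₂ ∧ F ≠ T₂ := by
    by_cases h : F = T₀
    · exact ⟨T', hT', h ▸ Ne.symm hTne⟩
    · exact ⟨T₀, A.fac_self, h⟩
  let Sf : AddSubgroup V :=
    { carrier := {z | ∀ r ∈ F, r • v = v → r • z = z}
      zero_mem' := fun r _ _ => smul_zero r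
      add_mem' := fun {a b} ha hb r hr hrv => by rw [smul_add, ha r hr hrv, hb r hr hrv]
      neg_mem' := fun {a} ha r hr hrv => by rw [smul_neg, ha r hr hrv] }
  obtain ⟨B, ⟨hB0, hBS, hBinv⟩, hBmin⟩ := Set.exists_min_image
    {W : AddSubgroup V | W ≠ ⊥ ∧ W ≤ Sf ∧ ∀ k ∈ T₂, ∀ z ∈ W, k • z ∈ W}
    (fun W => Nat.card W) (Set.toFinite _)
    ⟨Sf, fun h => hv (AddSubgroup.mem_bot.1 (le_of_eq h (fun r _ hrv => hrv : v ∈ Sf))), le_rfl,
      fun k hk z hz r hr hrv => by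
        rw [← mul_smul, (A.minIn hF).commute (A.minIn hT₂) hT₂F hr hk, mul_smul, hz r hr hrv]⟩
  have hirr : Irr T₂ B := ⟨hBinv, hB0, fun W hW hinv hW0 =>
    AddSubgroup.eq_of_le_of_card_ge hW (hBmin W ⟨hW0, hW.trans hBS, hinv⟩)⟩
  have : Nontrivial B := (AddSubgroup.nontrivial_iff_ne_bot B).2 hB0
  obtain ⟨⟨u, huB⟩, hu0⟩ := exists_ne (0 : B)
  have hu : u ≠ 0 := fun h => hu0 (Subtype.ext h)
  have he : F ⊓ stabilizer H v = F ⊓ stabilizer H u :=
    Subgroup.eq_of_le_of_card_ge (fun r hr => ⟨hr.1, mem_stabilizer_iff.2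
      (hBS huB r hr.1 (mem_stabilizer_iff.1 hr.2))⟩) (hmax' u F hu hF)
  have C : Conf p V M T₀ F T₂ u :=
    ⟨A, hF, hT₂, hT₂F, hu, he ▸ hbig, fun x L hx hL => he ▸ hmax' x L hx hL⟩
  refine C.false hirr huB fun r hr hru b hb => hBS hb r hr ?_
  exact mem_stabilizer_iff.1 (le_of_eq he.symm ⟨hr, mem_stabilizer_iff.2 hru⟩).2

end Cfsg.Agent.ExtremelyPrimitive
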