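/-
Extremely primitive affine groups, part 6: from the permutation group to its point stabilizer.
-/
import Cfsg.Agent.Lib.ExtremelyPrimitive.Main

namespace Cfsg.Agent.ExtremelyPrimitive

open MulAction
open scoped Pointwise

universe u v

/-- The point stabilizer of an insoluble extremely primitive affine group satisfies `Setup`. -/
theorem exists_setup {G : Type u} [Group G] [Finite G] {Ω : Type v} [Fintype Ω] [MulAction G Ω]
    [FaithfulSMul G Ω] (p d : ℕ) (hp : p.Prime) (hcard : Fintype.card Ω = p ^ d)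
    (hsol : ¬ Group.IsSolvable G) (N : Subgroup G) [hNn : N.Normal] (hN : N ≠ ⊥)
    (hNc : IsMulCommutative N) (hNreg : ∀ ω : Ω, stabilizer N ω = ⊥)
    (hprim : IsPreprimitive G Ω) (hH : ∀ α : Ω, stabilizer G α ≠ ⊥)
    (hep : ∀ (α : Ω) (ω : Ω),
      IsPreprimitive (stabilizer G α) (orbit (stabilizer G α) ω)) (α : Ω) :
    ∃ (V : Type u) (_ : AddCommGroup V) (_ : Finite V) (_ : DistribMulAction (stabilizer G α) V),
      Setup p (stabilizer G α) V := by
  classical
  have hcomm : ∀ a ∈ N, ∀ b ∈ N, a * b = b * a := fun a ha b hb =>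
    congrArg Subtype.val (hNc.is_comm.comm (⟨a, ha⟩ : N) ⟨b, hb⟩)
  have hfix : fixedPoints N Ω ≠ Set.univ := by
    intro h
    refine hN ((Subgroup.eq_bot_iff_forall N).2 fun a ha => ?_)
    exact FaithfulSMul.eq_of_smul_eq_smul fun ω : Ω => by
      rw [one_smul]
      exact (h ▸ Set.mem_univ ω : ω ∈ fixedPoints N Ω) ⟨a, ha⟩
  have htr : IsPretransitive N Ω := IsQuasiPreprimitive.isPretransitive_of_normal hfix
  have hfree : ∀ a : N, (a : G) • α = α → a = 1 := fun a ha =>
    Subgroup.mem_bot.1 (le_of_eq (hNreg α) (mem_stabilizer_iff.2 ha))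
  letI : CommGroup N := { (inferInstance : Group N) with mul_comm := hNc.is_comm.comm }
  let c : Additive N → G := fun x => ((x.toMul : N) : G)
  have hcN : ∀ x, c x ∈ N := fun x => (x.toMul : N).2
  have hcinj : Function.Injective c := fun x y h => Additive.toMul.injective (Subtype.ext h)
  have hcadd : ∀ x y, c (x + y) = c x * c y := fun x y => rfl
  have hc0 : c 0 = 1 := rfl
  have hbij : Function.Bijective fun x : Additive N => c x • α := by
    refine ⟨fun a b h => ?_, fun ω => ?_⟩
    · have h1 : ((b.toMul⁻¹ * a.toMul : N) : G) • α = α := by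
        rw [Subgroup.coe_mul, Subgroup.coe_inv, mul_smul]; exact inv_smul_eq_iff.2 h
      exact Additive.toMul.injective (inv_mul_eq_one.1 (hfree _ h1)).symm
    · obtain ⟨m, hm⟩ := exists_smul_eq N α ω
      exact ⟨Additive.ofMul m, hm⟩
  let e : Additive N ≃ Ω := Equiv.ofBijective _ hbij
  have he : ∀ x, e x = c x • α := fun x => rfl
  let act : stabilizer G α → Additive N → Additive N := fun h x =>
    Additive.ofMul ⟨(h : G) * c x * (h : G)⁻¹, hNn.conj_mem _ (hcN x) _⟩
  letI iM : MulAction (stabilizer G α) (Additive N) :=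
    { smul := act
      one_smul := fun x => hcinj (by show (1 : G) * c x * (1 : G)⁻¹ = c x; group)
      mul_smul := fun g h x => hcinj (by
        show ((g * h : stabilizer G α) : G) * c x * ((g * h : stabilizer G α) : G)⁻¹ =
          (g : G) * ((h : G) * c x * (h : G)⁻¹) * (g : G)⁻¹
        rw [Subgroup.coe_mul]; group) }
  have hsmul : ∀ (h : stabilizer G α) (x : Additive N),
      c (h • x) = (h : G) * c x * (h : G)⁻¹ := fun h x => rfl
  letI iD : DistribMulAction (stabilizer G α) (Additive N) :=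
    { smul_zero := fun g => hcinj (by rw [hsmul, hc0]; group)
      smul_add := fun g x y => hcinj (by rw [hsmul, hcadd, hcadd, hsmul, hsmul]; group) }
  refine ⟨Additive N, inferInstance, inferInstance, iD, ?_⟩
  have hsm : ∀ (h : stabilizer G α) (x : Additive N), (h : G) • e x = e (h • x) := by
    intro h x
    rw [he, he, hsmul, mul_smul, mul_smul, inv_smul_eq_iff.2 (mem_stabilizer_iff.1 h.2).symm]
  have htrans : ∀ x y, c y • e x = e (x + y) := fun x y => by
    rw [he, he, hcadd, hcomm _ (hcN x) _ (hcN y), mul_smul]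
  have hdec : ∀ g : G, ∃ (b : Additive N) (h : stabilizer G α), g = c b * (h : G) := by
    intro g
    refine ⟨e.symm (g • α), ⟨(c (e.symm (g • α)))⁻¹ * g, ?_⟩, by simp⟩
    rw [mem_stabilizer_iff, mul_smul, inv_smul_eq_iff, ← he, e.apply_symm_apply]
  have hdec' : ∀ g : G, ∃ (b : Additive N) (h : stabilizer G α), ∀ x, g • e x = e (h • x + b) := by
    intro g
    obtain ⟨b, h, rfl⟩ := hdec g
    exact ⟨b, h, fun x => by rw [mul_smul, hsm, htrans]⟩
  have hntN : Nontrivial N := (Subgroup.nontrivial_iff_ne_bot N).2 hN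
  have hnt : Nontrivial (Additive N) := Additive.ofMul.symm.nontrivial
  have hfaith : ∀ h : stabilizer G α, (∀ v : Additive N, h • v = v) → h = 1 := fun h hh => by
    refine Subtype.ext (FaithfulSMul.eq_of_smul_eq_smul fun ω : Ω => ?_)
    obtain ⟨x, rfl⟩ := e.surjective ω
    rw [hsm, hh, OneMemClass.coe_one, one_smul]
  have hirr : ∀ W : AddSubgroup (Additive N),
      (∀ h : stabilizer G α, ∀ w ∈ W, h • w ∈ W) → W = ⊥ ∨ W = ⊤ := by
    intro W hW
    have hblock : IsBlock G (e '' (W : Set (Additive N))) := by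
      intro g₁ g₂ hne
      rw [Set.disjoint_left]
      rintro _ ⟨_, ⟨x, hx, rfl⟩, rfl⟩ ⟨_, ⟨y, hy, rfl⟩, hxy⟩
      obtain ⟨b₁, h₁, hg₁⟩ := hdec' g₁
      obtain ⟨b₂, h₂, hg₂⟩ := hdec' g₂
      have hxy' : g₂ • e y = g₁ • e x := hxy
      rw [hg₁, hg₂, e.apply_eq_iff_eq] at hxy'
      refine hne (Set.ext fun ω => ?_)
      have key : ∀ {g g' : G} {b b' : Additive N} {h h' : stabilizer G α} {x y : Additive N},
          (∀ z, g • e z = e (h • z + b)) → (∀ z, g' • e z = e (h' • z + b')) → x ∈ W → y ∈ W →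
          h • x + b = h' • y + b' → ∀ z ∈ W, g • e z ∈ g' • (e '' (W : Set (Additive N))) := by
        intro g g' b b' h h' x y hg hg' hx hy hxy z hz
        refine ⟨e (h'⁻¹ • (h • (z - x)) + y), ⟨_, add_mem (hW _ _ (hW _ _ (sub_mem hz hx))) hy,
          rfl⟩, ?_⟩
        show g' • e _ = g • e z
        rw [hg', hg, smul_add, smul_inv_smul, add_assoc, ← hxy, smul_sub]
        congr 1
        abel
      constructor
      · rintro ⟨_, ⟨z, hz, rfl⟩, rfl⟩
        exact key hg₁ hg₂ hx hy hxy'.symm z hz
      · rintro ⟨_, ⟨z, hz, rfl⟩, rfl⟩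
        exact key hg₂ hg₁ hy hx hxy' z hz
    rcases hblock.subsingleton_or_eq_univ with h | h
    · refine .inl ((AddSubgroup.eq_bot_iff_forall _).2 fun x hx => e.injective ?_)
      exact h ⟨x, hx, rfl⟩ ⟨0, zero_mem W, rfl⟩
    · refine .inr (eq_top_iff.2 fun x _ => ?_)
      obtain ⟨y, hy, hxy⟩ := (h.symm ▸ Set.mem_univ (e x) : e x ∈ e '' (W : Set (Additive N)))
      exact e.injective hxy ▸ hy
  refine ⟨hp, ⟨d, ?_⟩, hnt, hfaith, hirr, fun v hv => ?_, fun hs => hsol ?_⟩
  · rw [Nat.card_congr e, Nat.card_eq_fintype_card, hcard]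
  · have := hep α (e v)
    have hntO : Nontrivial (orbit (stabilizer G α) (e v)) := by
      by_contra hc
      rw [not_nontrivial_iff_subsingleton] at hc
      have hfixv : ∀ h : stabilizer G α, h • v = v := fun h => e.injective (by
        rw [← hsm]
        exact congrArg Subtype.val (hc.elim (⟨h • e v, mem_orbit _ _⟩ : orbit (stabilizer G α) (e v))
          ⟨e v, mem_orbit_self _⟩))
      let W : AddSubgroup (Additive N) :=
        { carrier := {w | ∀ h : stabilizer G α, h • w = w}
          zero_mem' := fun h => smul_zero h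
          add_mem' := fun {a b} ha hb h => by rw [smul_add, ha, hb]
          neg_mem' := fun {a} ha h => by rw [smul_neg, ha] }
      rcases hirr W (fun h w hw k => by rw [hw h, hw k]) with hW | hW
      · exact hv (AddSubgroup.mem_bot.1 (le_of_eq hW (hfixv : v ∈ W)))
      · exact hH α ((Subgroup.eq_bot_iff_forall _).2 fun g hg => congrArg Subtype.val
          (hfaith ⟨g, hg⟩ fun w => (le_of_eq hW.symm (AddSubgroup.mem_top w) : w ∈ W) ⟨g, hg⟩))
    have hc := IsPreprimitive.isCoatom_stabilizer_of_isPreprimitive (G := stabilizer G α)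
      (⟨e v, mem_orbit_self _⟩ : orbit (stabilizer G α) (e v))
    convert hc using 1
    ext h
    rw [mem_stabilizer_iff, mem_stabilizer_iff, Subtype.ext_iff]
    show h • v = v ↔ (h : G) • e v = e v
    rw [hsm, e.apply_eq_iff_eq]
  · have : Group.IsSolvable N := Group.isSolvable_of_comm fun a b => hNc.is_comm.comm a b
    have : Group.IsSolvable (G ⧸ N) :=
      Group.isSolvable_of_surjective (f := (QuotientGroup.mk' N).comp (stabilizer G α).subtype)
        (fun x => by
          obtain ⟨g, rfl⟩ := QuotientGroup.mk'_surjective N x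
          obtain ⟨b, h, rfl⟩ := hdec g
          refine ⟨h, ?_⟩
          show (QuotientGroup.mk' N) (h : G) = (QuotientGroup.mk' N) (c b * (h : G))
          rw [map_mul, (QuotientGroup.eq_one_iff (c b)).2 (hcN b) |> fun e' =>
            show (QuotientGroup.mk' N) (c b) = 1 from e', one_mul])
    exact Group.isSolvable_of_ker_le_range N.subtype (QuotientGroup.mk' N)
      (by rw [QuotientGroup.ker_mk', Subgroup.range_subtype])

end Cfsg.Agent.ExtremelyPrimitive
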