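import Cfsg.Agent.Lib.Transfer.Tate
import Mathlib.GroupTheory.SpecificGroups.Cyclic

/-!
# No simple group has all element centralizers "power-closed" and self-normalising (owner: helper2)

`false_of_centralizers`: a finite non-abelian simple group cannot have, for all `t ≠ 1`, a
self-normalising centralizer `C(t)` with `C(t ^ i) = C(t)` whenever `t ^ i ≠ 1`.
-/

open Subgroup

namespace Cfsg.Agent.ExtremelyPrimitive

variable {T : Type*} [Group T]

theorem le_of_normalizerCondition {P : Subgroup T} [Group.IsNilpotent P] {A : Subgroup T}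
    (hA : A ≤ P) (h : ∀ g ∈ P, g ∈ normalizer (A : Set T) → g ∈ A) : P ≤ A := by
  rw [← subgroupOf_eq_top]
  by_contra hne
  obtain ⟨g, hg, hgA⟩ := Set.exists_of_ssubset
    (Group.normalizerCondition_of_isNilpotent (A.subgroupOf P) (lt_top_iff_ne_top.2 hne))
  rw [← subgroupOf_normalizer_eq hA] at hg
  exact hgA (h g g.2 hg)

theorem centralizer_le_of_mem {A : Subgroup T} {w : T} (h : w ∈ A) :
    centralizer (A : Set T) ≤ centralizer {w} :=
  centralizer_le (Set.singleton_subset_iff.2 h)

theorem normalizer_le_normalizer_centralizer (A : Subgroup T) :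
    normalizer (A : Set T) ≤ normalizer (centralizer (A : Set T) : Set T) := by
  have key : ∀ g ∈ normalizer (A : Set T), ∀ c ∈ centralizer (A : Set T),
      g * c * g⁻¹ ∈ centralizer (A : Set T) := by
    intro g hg c hc
    rw [mem_centralizer_iff] at hc ⊢
    intro a ha
    have ha' : g⁻¹ * a * g ∈ A := by
      have := (mem_normalizer_iff.1 (inv_mem hg) a).1 ha
      rwa [inv_inv] at this
    calc a * (g * c * g⁻¹) = g * (g⁻¹ * a * g * c) * g⁻¹ := by group
      _ = g * (c * (g⁻¹ * a * g)) * g⁻¹ := by rw [hc _ ha']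
      _ = g * c * g⁻¹ * a := by group
  intro g hg
  refine mem_normalizer_iff.2 fun c => ⟨key g hg c, fun h => ?_⟩
  have := key g⁻¹ (inv_mem hg) _ h
  simpa [mul_assoc] using this

theorem not_isPGroup [Finite T] [IsSimpleGroup T] (hnc : ¬ IsMulCommutative T) (p : ℕ)
    [Fact p.Prime] : ¬ IsPGroup p T := fun h => by
  have := h.isNilpotent
  refine hnc ⟨⟨fun a b => ?_⟩⟩
  exact mul_comm a b

theorem normalizer_not_le_centralizer [Finite T] [IsSimpleGroup T] (hnc : ¬ IsMulCommutative T)
    {p : ℕ} [Fact p.Prime] (hp : p ∣ Nat.card T) (P : Sylow p T) :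
    ¬ normalizer ((P : Subgroup T) : Set T) ≤ centralizer ((P : Subgroup T) : Set T) := fun h => by
  obtain ⟨Q, N, hN, hc⟩ := Transfer.hasNormalPComplement_of_normalizer_le_centralizer P h
  rcases hN.eq_bot_or_eq_top with rfl | rfl
  · have hQ : (Q : Subgroup T) = ⊤ := by simpa using hc.sup_eq_top
    refine not_isPGroup hnc p ?_
    have h2 : IsPGroup p (⊤ : Subgroup T) := hQ ▸ Q.2
    exact h2.of_equiv topEquiv
  · have hQ : (Q : Subgroup T) = ⊥ := by simpa using hc.disjoint.symm
    refine Q.not_dvd_index ?_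
    rw [hQ, index_bot]
    exact hp

theorem counting_bound {S : ℕ} (a : ℕ → ℕ) : ∀ (N : ℕ) (s : Finset ℕ),
    (∀ p ∈ s, 2 ≤ p ∧ p ≤ N + 1 ∧ a p * p ^ 2 ≤ S) → (N + 1) * (∑ p ∈ s, a p) ≤ N * S := by
  intro N
  induction N with
  | zero =>
    intro s h
    rw [Finset.sum_eq_zero fun p hp => absurd (h p hp) (by omega)]
    simp
  | succ N ih =>
    intro s h
    have h0 := ih (s.erase (N + 2)) fun p hp => by
      obtain ⟨hne, hp⟩ := Finset.mem_erase.1 hp
      obtain ⟨h1, h2, h3⟩ := h p hp
      exact ⟨h1, by omega, h3⟩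
    by_cases hmem : N + 2 ∈ s
    · rw [← Finset.add_sum_erase s a hmem]
      obtain ⟨-, -, h3⟩ := h _ hmem
      generalize ∑ p ∈ s.erase (N + 2), a p = σ at h0
      refine Nat.le_of_mul_le_mul_left (c := N + 1) ?_ (by omega)
      nlinarith
    · rw [Finset.erase_eq_of_notMem hmem] at h0
      nlinarith

theorem false_of_centralizers [Finite T] [IsSimpleGroup T] (hnc : ¬ IsMulCommutative T)
    (hA : ∀ t : T, t ≠ 1 → normalizer (centralizer ({t} : Set T) : Set T) = centralizer {t})
    (hB : ∀ (t : T) (i : ℕ), t ^ i ≠ 1 → centralizer ({t ^ i} : Set T) = centralizer {t}) :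
    False := by
  classical
  have hmem : ∀ a b : T, a ∈ centralizer ({b} : Set T) ↔ Commute a b := fun a b =>
    mem_centralizer_singleton_iff.trans ⟨fun h => h, fun h => h.eq⟩
  have hcop : ∀ y z : T, y ≠ 1 → z ≠ 1 → Commute y z → (orderOf y).Coprime (orderOf z) →
      centralizer ({y} : Set T) = centralizer {z} := by
    intro y z hy hz hc hco
    obtain ⟨i, hi1, hi2⟩ := Nat.chineseRemainder hco 1 0
    obtain ⟨j, hj1, hj2⟩ := Nat.chineseRemainder hco 0 1
    have e1 : (y * z) ^ i = y := by
      rw [hc.mul_pow, pow_eq_pow_iff_modEq.2 hi1, pow_eq_pow_iff_modEq.2 hi2, pow_one, pow_zero,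
        mul_one]
    have e2 : (y * z) ^ j = z := by
      rw [hc.mul_pow, pow_eq_pow_iff_modEq.2 hj1, pow_eq_pow_iff_modEq.2 hj2, pow_one, pow_zero,
        one_mul]
    have h1 := hB (y * z) i (by rw [e1]; exact hy)
    have h2 := hB (y * z) j (by rw [e2]; exact hz)
    rw [e1] at h1
    rw [e2] at h2
    rw [h1, h2]
  have hprimepow : ∀ t : T, t ≠ 1 → ∃ p : ℕ, p.Prime ∧ ∃ k : ℕ, orderOf (t ^ k) = p ∧
      centralizer ({t ^ k} : Set T) = centralizer {t} := by
    intro t ht
    obtain ⟨p, hp, hd⟩ := Nat.exists_prime_and_dvd (mt orderOf_eq_one_iff.1 ht)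
    have ho : orderOf (t ^ (orderOf t / p)) = p := orderOf_pow_orderOf_div (orderOf_pos t).ne' hd
    refine ⟨p, hp, _, ho, hB t _ fun e => ?_⟩
    rw [e, orderOf_one] at ho
    exact hp.ne_one ho.symm
  -- centralizers of elements of order `p` are `p`-groups
  have hpg : ∀ (p : ℕ) [Fact p.Prime] (x : T), orderOf x = p →
      IsPGroup p (centralizer ({x} : Set T)) := by
    intro p hp x hx
    set C := centralizer ({x} : Set T)
    have hx1 : x ≠ 1 := fun e => hp.out.ne_one (by rw [← hx, e, orderOf_one])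
    by_contra hnp
    obtain ⟨q, hq, hqd, hqp⟩ : ∃ q : ℕ, q.Prime ∧ q ∣ Nat.card C ∧ q ≠ p := by
      by_contra hne
      push Not at hne
      exact hnp (IsPGroup.of_card (Nat.eq_prime_pow_of_unique_prime_dvd Nat.card_pos.ne'
        fun hd hdd => hne _ hd hdd))
    have := Fact.mk hq
    obtain ⟨⟨z, hzC⟩, hz⟩ := exists_prime_orderOf_dvd_card' (G := C) q hqd
    rw [orderOf_mk] at hz
    have hz1 : z ≠ 1 := fun e => hq.ne_one (by rw [← hz, e, orderOf_one])
    have hCz : centralizer ({z} : Set T) = C := hcop z x hz1 hx1 ((hmem z x).1 hzC)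
      (by rw [hz, hx]; exact (Nat.coprime_primes hq hp.out).2 hqp)
    have hw : ∀ w ∈ C, w ≠ 1 → centralizer ({w} : Set T) = C := by
      intro w hwC hw1
      obtain ⟨r, hr, k, hk, hkC⟩ := hprimepow w hw1
      have hkC' : w ^ k ∈ C := pow_mem hwC k
      have hk1 : w ^ k ≠ 1 := fun e => hr.ne_one (by rw [← hk, e, orderOf_one])
      rw [← hkC]
      by_cases hrp : r = p
      · refine (hcop (w ^ k) z hk1 hz1 ((hmem _ _).1 (hCz.symm ▸ hkC')) ?_).trans hCz
        rw [hk, hz, hrp]; exact ((Nat.coprime_primes hq hp.out).2 hqp).symm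
      · refine hcop (w ^ k) x hk1 hx1 ((hmem _ _).1 hkC') ?_
        rw [hk, hx]; exact (Nat.coprime_primes hr hp.out).2 hrp
    have hCcomm : C ≤ centralizer (C : Set T) := by
      intro a ha
      rw [mem_centralizer_iff]
      intro b hb
      rcases eq_or_ne b 1 with rfl | hb1
      · rw [one_mul, mul_one]
      · exact ((hmem a b).1 ((hw b hb hb1).symm ▸ ha)).eq.symm
    obtain ⟨P, hP⟩ := ((Classical.arbitrary (Sylow p C)).2.map C.subtype).exists_le_sylow
    have hpC : p ∣ Nat.card C := hx ▸ orderOf_dvd_natCard C ((hmem x x).2 (Commute.refl x))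
    obtain ⟨w, hwP, hwC, hw1⟩ : ∃ w, w ∈ (P : Subgroup T) ∧ w ∈ C ∧ w ≠ 1 := by
      set S := Classical.arbitrary (Sylow p C)
      have hS : (S : Subgroup C) ≠ ⊥ := fun e => S.not_dvd_index (by rw [e, index_bot]; exact hpC)
      obtain ⟨⟨⟨w, hwC⟩, hwS⟩, hw⟩ := ne_bot_iff_exists_ne_one.1 hS
      exact ⟨w, hP ⟨_, hwS, rfl⟩, hwC, fun e => hw (Subtype.ext (Subtype.ext e))⟩
    have := P.2.isNilpotent
    have hPC : (P : Subgroup T) ≤ C := by
      refine (le_of_normalizerCondition (A := (P : Subgroup T) ⊓ C) inf_le_left ?_).trans inf_le_right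
      intro g hgP hg
      refine ⟨hgP, ?_⟩
      have hcent : centralizer (((P : Subgroup T) ⊓ C : Subgroup T) : Set T) = C :=
        le_antisymm ((centralizer_le_of_mem (Subgroup.mem_inf.2 ⟨hwP, hwC⟩)).trans (hw w hwC hw1).le)
          (hCcomm.trans (centralizer_le fun y hy => (Subgroup.mem_inf.1 hy).2))
      have := normalizer_le_normalizer_centralizer _ hg
      rw [hcent, hA x hx1] at this
      exact this
    refine normalizer_not_le_centralizer hnc (hpC.trans (card_subgroup_dvd_card C)) P ?_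
    have hcent : centralizer ((P : Subgroup T) : Set T) = C :=
      le_antisymm ((centralizer_le_of_mem hwP).trans (hw w hwC hw1).le)
        (hCcomm.trans (centralizer_le hPC))
    intro g hg
    have := normalizer_le_normalizer_centralizer _ hg
    rw [hcent, hA x hx1] at this
    rwa [hcent]
  -- every centralizer is a Sylow subgroup
  have hsyl : ∀ t : T, t ≠ 1 → ∃ p : ℕ, p.Prime ∧ p ∣ Nat.card T ∧
      ∃ P : Sylow p T, centralizer ({t} : Set T) = P := by
    intro t ht
    obtain ⟨p, hp, k, hk, hkC⟩ := hprimepow t ht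
    have := Fact.mk hp
    have hC := hpg p (t ^ k) hk
    rw [hkC] at hC
    obtain ⟨P, hP⟩ := hC.exists_le_sylow
    have := P.2.isNilpotent
    refine ⟨p, hp, hk ▸ orderOf_dvd_natCard _, P, le_antisymm hP ?_⟩
    exact le_of_normalizerCondition hP fun g _ hg => hA t ht ▸ hg
  -- Sylow subgroups have centre of index at least `p ^ 2`
  set Z : Subgroup T → Subgroup T := fun P => P ⊓ centralizer (P : Set T)
  have hZ : ∀ (p : ℕ) (P : Sylow p T), p.Prime → ∀ t : T, t ≠ 1 →
      centralizer ({t} : Set T) = P → Nat.card (Z P) * p ^ 2 ≤ Nat.card P := by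
    intro p P hp t ht hCt
    have := Fact.mk hp
    have hNP : normalizer ((P : Subgroup T) : Set T) = P := by rw [← hCt]; exact hA t ht
    have htP : t ∈ (P : Subgroup T) := hCt ▸ (hmem t t).2 (Commute.refl t)
    have hpT : p ∣ Nat.card T := by
      obtain ⟨k, hk⟩ := IsPGroup.iff_card.1 P.2
      have hd : orderOf t ∣ p ^ k := hk ▸ orderOf_dvd_natCard _ htP
      obtain ⟨j, -, hj⟩ := (Nat.dvd_prime_pow hp).1 hd
      have hj0 : j ≠ 0 := fun e => ht (orderOf_eq_one_iff.1 (by rw [hj, e, pow_zero]))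
      exact ((dvd_pow_self p hj0).trans (hj ▸ dvd_rfl)).trans (orderOf_dvd_natCard t)
    have hncP : ¬ ∀ a b : (P : Subgroup T), a * b = b * a := fun hc =>
      normalizer_not_le_centralizer hnc hpT P (hNP.le.trans fun a ha =>
        mem_centralizer_iff.2 fun b hb => congrArg Subtype.val (hc ⟨b, hb⟩ ⟨a, ha⟩))
    set Z' := center (P : Subgroup T)
    have hcard : Nat.card (Z P) = Nat.card Z' := by
      rw [← card_map_of_injective (P : Subgroup T).subtype_injective]
      congr 2
      ext a
      simp only [Z, mem_inf, mem_centralizer_iff, mem_map]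
      constructor
      · rintro ⟨ha, hc⟩
        exact ⟨⟨a, ha⟩, mem_center_iff.2 fun b => Subtype.ext (hc b b.2), rfl⟩
      · rintro ⟨b, hb, rfl⟩
        exact ⟨b.2, fun c hc => congrArg Subtype.val (mem_center_iff.1 hb ⟨c, hc⟩)⟩
    obtain ⟨n, hn⟩ := (P.2.to_subgroup ⊤ |>.of_equiv topEquiv).index Z'
    have hn2 : 2 ≤ n := by
      by_contra hlt
      apply hncP
      have : IsCyclic ((P : Subgroup T) ⧸ Z') := by
        interval_cases n
        · have : Subsingleton ((P : Subgroup T) ⧸ Z') := by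
            rw [index_eq_card, pow_zero] at hn
            exact (Nat.card_eq_one_iff_unique.1 hn).1
          exact isCyclic_of_subsingleton
        · rw [index_eq_card, pow_one] at hn
          exact isCyclic_of_prime_card hn
      exact fun a b => commutative_of_cyclic_center_quotient (QuotientGroup.mk' Z')
        (QuotientGroup.ker_mk' Z').le a b
    rw [hcard, ← Z'.card_mul_index, hn]
    exact Nat.mul_le_mul_left _ (Nat.pow_le_pow_right hp.pos hn2)
  -- count
  have := Fintype.ofFinite T
  let U : ℕ → Finset T := fun p => (Finset.univ.erase (1 : T)).filter fun t =>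
    ∃ P : Sylow p T, centralizer ({t} : Set T) = P
  set s := (Nat.card T).primeFactors
  have hcover : Finset.univ.erase (1 : T) ⊆ s.biUnion U := by
    intro t ht
    obtain ⟨p, hp, hpd, hP⟩ := hsyl t (Finset.mem_erase.1 ht).1
    exact Finset.mem_biUnion.2
      ⟨p, Nat.mem_primeFactors.2 ⟨hp, hpd, Nat.card_pos.ne'⟩, Finset.mem_filter.2 ⟨ht, hP⟩⟩
  have hUp : ∀ p ∈ s, (U p).card * p ^ 2 ≤ Nat.card T := by
    intro p hp
    have hpp := Nat.prime_of_mem_primeFactors hp
    have := Fact.mk hpp
    have := Fintype.ofFinite (Sylow p T)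
    by_cases hne : (U p).Nonempty
    swap
    · rw [Finset.not_nonempty_iff_eq_empty.1 hne]; simp
    obtain ⟨t0, ht0⟩ := hne
    simp only [U, Finset.mem_filter, Finset.mem_erase] at ht0
    obtain ⟨⟨ht01, -⟩, P0, hP0⟩ := ht0
    have h1 : (U p).card ≤ ∑ P : Sylow p T, Nat.card (Z P) := by
      refine le_trans (Finset.card_le_card
        (t := (Finset.univ : Finset (Sylow p T)).biUnion fun P : Sylow p T =>
          (Finset.univ : Finset T).filter fun t => t ∈ Z P) ?_)
        (Finset.card_biUnion_le.trans (le_of_eq (Finset.sum_congr rfl fun P _ => ?_)))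
      · intro t ht
        simp only [U, Finset.mem_filter, Finset.mem_erase] at ht
        obtain ⟨-, P, hP⟩ := ht
        refine Finset.mem_biUnion.2 ⟨P, Finset.mem_univ _, Finset.mem_filter.2 ⟨Finset.mem_univ _,
          mem_inf.2 ⟨hP ▸ (hmem t t).2 (Commute.refl t), mem_centralizer_iff.2 fun a ha => ?_⟩⟩⟩
        exact ((hmem a t).1 (hP ▸ ha)).eq
      · rw [Nat.card_eq_fintype_card, Fintype.card_subtype]
    have hcz : ∀ P : Sylow p T, Nat.card (Z P) = Nat.card (Z P0) := by
      intro P
      obtain ⟨g, rfl⟩ := MulAction.exists_smul_eq T P0 P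
      rw [← card_map_of_injective (K := Z P0)
        (show Function.Injective ((MulAut.conj g).toMonoidHom : T →* T) from (MulAut.conj g).injective)]
      congr 2
      simp only [Z, Sylow.coe_subgroup_smul]
      ext a
      simp only [mem_inf, mem_centralizer_iff, Subgroup.mem_map, MulEquiv.coe_toMonoidHom,
        MulAut.conj_apply, MonoidHom.coe_coe, SetLike.mem_coe]
      constructor
      · rintro ⟨ha, hc⟩
        refine ⟨g⁻¹ * a * g, ⟨?_, fun b hb => ?_⟩, by group⟩
        · obtain ⟨b, hb, rfl⟩ := ha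
          have e : g⁻¹ * ((MulAut.conj g) b) * g = b := by simp [mul_assoc]
          exact (e.symm ▸ hb :)
        · have hb' := hc _ ⟨b, hb, rfl⟩
          simp only [MulDistribMulAction.toMonoidEnd_apply, MulDistribMulAction.toMonoidHom_apply,
            MulAut.smul_def, MulAut.conj_apply] at hb'
          have h := congrArg (fun x => g⁻¹ * x * g) hb'
          simpa [mul_assoc] using h
      · rintro ⟨b, ⟨hb, hc⟩, rfl⟩
        refine ⟨⟨b, hb, by simp⟩, ?_⟩
        rintro _ ⟨c, hc', rfl⟩
        simp only [MulDistribMulAction.toMonoidEnd_apply, MulDistribMulAction.toMonoidHom_apply,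
          MulAut.smul_def, MulAut.conj_apply]
        have h := congrArg (fun x => g * x * g⁻¹) (hc c hc')
        simpa [mul_assoc] using h
    rw [Finset.sum_congr rfl (fun P _ => hcz P), Finset.sum_const, Finset.card_univ,
      ← Nat.card_eq_fintype_card, smul_eq_mul] at h1
    calc (U p).card * p ^ 2 ≤ Nat.card (Sylow p T) * (Nat.card (Z P0) * p ^ 2) := by
          rw [← mul_assoc]; exact Nat.mul_le_mul_right _ h1
      _ ≤ Nat.card (Sylow p T) * Nat.card P0 := Nat.mul_le_mul_left _ (hZ p P0 hpp t0 ht01 hP0)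
      _ ≤ (P0 : Subgroup T).index * Nat.card P0 :=
          Nat.mul_le_mul_right _ (Nat.le_of_dvd (Nat.pos_of_ne_zero index_ne_zero_of_finite)
            P0.card_dvd_index)
      _ = Nat.card T := by rw [mul_comm, card_mul_index]
  have hT2 : ∀ p ∈ s, p + 1 ≤ Nat.card T := by
    intro p hp
    have hpp := Nat.prime_of_mem_primeFactors hp
    have := Fact.mk hpp
    rcases (Nat.le_of_dvd Nat.card_pos (Nat.dvd_of_mem_primeFactors hp)).lt_or_eq with h | h
    · omega
    · exact absurd (IsPGroup.of_card (n := 1) (by rw [pow_one]; exact h.symm)) (not_isPGroup hnc p)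
  have hn2 : 2 ≤ Nat.card T := Finite.one_lt_card
  obtain ⟨N, hN⟩ : ∃ N, Nat.card T = N + 2 := ⟨Nat.card T - 2, by omega⟩
  have hb := counting_bound (S := Nat.card T) (fun p => (U p).card) N s fun p hp =>
    ⟨(Nat.prime_of_mem_primeFactors hp).two_le, by have := hT2 p hp; omega, hUp p hp⟩
  have hc := Finset.card_le_card hcover
  rw [Finset.card_erase_of_mem (Finset.mem_univ _), Finset.card_univ, ← Nat.card_eq_fintype_card]
    at hc
  have hc' := hc.trans Finset.card_biUnion_le
  rw [hN] at hc' hb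
  have : (N + 1) * (N + 1) ≤ N * (N + 2) := (Nat.mul_le_mul_left _ hc').trans hb
  nlinarith

end Cfsg.Agent.ExtremelyPrimitive
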