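import Cfsg.Agent.Lib.ExtremelyPrimitive.Simple
import Mathlib.GroupTheory.GroupAction.Primitive
import Mathlib.Data.Finset.NoncommProd

/-!
# Extremely primitive groups are affine or almost simple (owner: helper2)

Mann–Praeger–Seress, elementary route:
* `exists_mem_smul_eq`: a normal subgroup's part of the stabilizer covers every suborbit;
* regular non-simple socle: product of a fixed orbit over the simple factors is a second fixed point;
* non-regular socle with at least three factors: commutators land in the stabilizer;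
* two regular simple factors: centralizers would be self-normalising and power-closed
  (`false_of_centralizers`).
-/

open Pointwise MulAction Cfsg.Agent.ExtremelyPrimitive

namespace Cfsg.Agent.ExtremelyPrimitiveSocle

variable {G : Type*} [Group G] {Ω : Type*} [MulAction G Ω]

/-- Every orbit of the stabilizer of `α` carries a primitive action. -/
def SubPrim (G : Type*) [Group G] {Ω : Type*} [MulAction G Ω] (α : Ω) : Prop :=
  ∀ ω : Ω, IsPreprimitive (stabilizer G α) (orbit (stabilizer G α) ω)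

theorem mem_conj_smul_iff {A : Subgroup G} {g x : G} :
    x ∈ MulAut.conj g • A ↔ g⁻¹ * x * g ∈ A := by
  rw [Subgroup.mem_pointwise_smul_iff_inv_smul_mem, ← map_inv, MulAut.smul_def, MulAut.conj_apply,
    inv_inv]

theorem conj_mem_conj_smul {A : Subgroup G} (g : G) {x : G} (hx : x ∈ A) :
    g * x * g⁻¹ ∈ MulAut.conj g • A := by
  rw [mem_conj_smul_iff]
  simpa [mul_assoc] using hx

theorem mem_normalizer_of_conj_eq {A : Subgroup G} {g : G} (h : MulAut.conj g • A = A) :
    g ∈ Subgroup.normalizer (A : Set G) := by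
  refine Subgroup.mem_normalizer_iff.2 fun x => ⟨fun hx => h ▸ conj_mem_conj_smul g hx, fun hx => ?_⟩
  rw [← h, mem_conj_smul_iff] at hx
  simpa [mul_assoc] using hx

theorem conj_eq_of_mem_normalizer {A : Subgroup G} {g : G} (h : g ∈ Subgroup.normalizer (A : Set G)) :
    MulAut.conj g • A = A := by
  ext x
  rw [mem_conj_smul_iff]
  exact ((Subgroup.mem_normalizer_iff.1 (inv_mem h) x).trans (by rw [inv_inv])).symm

variable [FaithfulSMul G Ω]

theorem eq_one_of_commute_transitive {T : Subgroup G} {α : Ω} (hT : ∀ ω, ∃ t ∈ T, t • α = ω) {c : G}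
    (hc : c ∈ Subgroup.centralizer (T : Set G)) (hcα : c • α = α) : c = 1 := by
  refine FaithfulSMul.eq_of_smul_eq_smul (α := Ω) fun ω => ?_
  obtain ⟨t, ht, rfl⟩ := hT ω
  rw [one_smul, ← mul_smul, ← Subgroup.mem_centralizer_iff.1 hc t ht, mul_smul, hcα]

theorem eq_bot_of_normal_le_stabilizer [IsPretransitive G Ω] {α : Ω} {M : Subgroup G} (hM : M.Normal)
    (h : M ≤ stabilizer G α) : M = ⊥ := by
  rw [Subgroup.eq_bot_iff_forall]
  refine fun m hm => FaithfulSMul.eq_of_smul_eq_smul (α := Ω) fun ω => ?_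
  obtain ⟨g, rfl⟩ := exists_smul_eq G α ω
  have h1 : (g⁻¹ * m * g) • α = α := h (by simpa using hM.conj_mem m hm g⁻¹)
  rw [mul_smul, mul_smul, inv_smul_eq_iff] at h1
  rw [h1, one_smul]

theorem transitive_of_normal [IsPreprimitive G Ω] {M : Subgroup G} (hM : M.Normal) (hM0 : M ≠ ⊥)
    (α ω : Ω) : ∃ m ∈ M, m • α = ω := by
  have hne : fixedPoints M Ω ≠ .univ := by
    intro h
    refine hM0 ((Subgroup.eq_bot_iff_forall M).2 fun m hm => ?_)
    refine FaithfulSMul.eq_of_smul_eq_smul (α := Ω) fun x => ?_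
    rw [one_smul]
    exact (h.ge (Set.mem_univ x)) ⟨m, hm⟩
  have := IsQuasiPreprimitive.isPretransitive_of_normal (G := G) (X := Ω) (N := M) hne
  obtain ⟨m, hm⟩ := exists_smul_eq M α ω
  exact ⟨m, m.2, hm⟩

variable [IsPreprimitive G Ω] [Nontrivial Ω] {α : Ω}

theorem not_le_stabilizer (hH : stabilizer G α ≠ ⊥) {β : Ω} (hβ : β ≠ α) :
    ¬ stabilizer G α ≤ stabilizer G β := by
  intro hle
  have hα := IsPreprimitive.isCoatom_stabilizer_of_isPreprimitive G α
  have hβ' := IsPreprimitive.isCoatom_stabilizer_of_isPreprimitive G β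
  have heq : stabilizer G α = stabilizer G β := by
    rcases hle.lt_or_eq with h | h
    · exact absurd (hα.2 _ h) hβ'.1
    · exact h
  obtain ⟨g, hg⟩ := exists_smul_eq G α β
  have hgn : g ∈ Subgroup.normalizer ((stabilizer G α : Subgroup G) : Set G) := by
    refine mem_normalizer_of_conj_eq ?_
    conv_rhs => rw [heq, ← hg, stabilizer_smul_eq_stabilizer_map_conj]
    rfl
  refine hH (eq_bot_of_normal_le_stabilizer (α := α) (Subgroup.normalizer_eq_top_iff.1 (hα.2 _ ?_)) le_rfl)
  refine lt_of_le_of_ne Subgroup.le_normalizer fun e => ?_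
  rw [← e] at hgn
  exact hβ (hg.symm.trans hgn)

theorem between (hsub : SubPrim G α) (hH : stabilizer G α ≠ ⊥) {β : Ω} (hβ : β ≠ α) {A : Subgroup G}
    (h1 : stabilizer G α ⊓ stabilizer G β ≤ A) (h2 : A ≤ stabilizer G α) :
    A = stabilizer G α ⊓ stabilizer G β ∨ A = stabilizer G α := by
  set H := stabilizer G α
  have := hsub β
  have : Nontrivial (orbit H β) := by
    obtain ⟨h, hh, hne⟩ := SetLike.not_le_iff_exists.1 (not_le_stabilizer hH hβ)
    exact ⟨⟨_, mem_orbit_self β⟩, ⟨_, mem_orbit β (⟨h, hh⟩ : H)⟩,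
      fun e => hne (congrArg Subtype.val e).symm⟩
  have hco := IsPreprimitive.isCoatom_stabilizer_of_isPreprimitive H
    (⟨β, mem_orbit_self β⟩ : orbit H β)
  have he : stabilizer H (⟨β, mem_orbit_self β⟩ : orbit H β) = (stabilizer G β).subgroupOf H := by
    ext x
    rw [mem_stabilizer_iff, Subgroup.mem_subgroupOf, mem_stabilizer_iff, Subtype.ext_iff,
      orbit.coe_smul]
    rfl
  rw [he] at hco
  have hle : (stabilizer G β).subgroupOf H ≤ A.subgroupOf H := fun x hx =>
    Subgroup.mem_subgroupOf.2 (h1 (Subgroup.mem_inf.2 ⟨x.2, hx⟩))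
  rcases hle.lt_or_eq with h | h
  · exact Or.inr (le_antisymm h2 (Subgroup.subgroupOf_eq_top.1 (hco.2 _ h)))
  · refine Or.inl (le_antisymm (fun a ha => Subgroup.mem_inf.2 ⟨h2 ha, ?_⟩) h1)
    exact (h.ge (show (⟨a, h2 ha⟩ : H) ∈ A.subgroupOf H from ha) : _)

theorem exists_mem_smul_eq [Finite G] (hsub : SubPrim G α) {M : Subgroup G} (hM : M.Normal)
    (hMH : M ⊓ stabilizer G α ≠ ⊥) {β : Ω} (hβ : β ≠ α) {h : G} (hh : h ∈ stabilizer G α) :
    ∃ d ∈ M ⊓ stabilizer G α, h • β = d • β := by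
  set H := stabilizer G α
  have hH : H ≠ ⊥ := fun e => hMH (le_bot_iff.1 (e ▸ inf_le_right))
  set D := M ⊓ H
  have hnorm : H ≤ Subgroup.normalizer (D : Set G) := fun x hx => by
    refine mem_normalizer_of_conj_eq ?_
    rw [Subgroup.smul_inf, conj_eq_of_mem_normalizer (by
        rw [Subgroup.normalizer_eq_top_iff.2 hM]; trivial : x ∈ Subgroup.normalizer (M : Set G)),
      conj_eq_of_mem_normalizer (Subgroup.le_normalizer hx)]
  by_cases hfix : D ≤ stabilizer G β
  · exfalso
    obtain ⟨g, hg⟩ := exists_smul_eq G α β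
    have hcard : Nat.card ↥(M ⊓ stabilizer G β) = Nat.card D := by
      have e : M ⊓ stabilizer G β = D.map (MulAut.conj g).toMonoidHom := by
        rw [Subgroup.map_inf _ _ _ (MulAut.conj g).injective, ← stabilizer_smul_eq_stabilizer_map_conj,
          hg]
        congr 1
        exact (conj_eq_of_mem_normalizer (by
          rw [Subgroup.normalizer_eq_top_iff.2 hM]; trivial : g ∈ Subgroup.normalizer (M : Set G))).symm
      rw [e]
      exact Subgroup.card_map_of_injective (MulAut.conj g).injective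
    have heq : D = M ⊓ stabilizer G β :=
      Subgroup.eq_of_le_of_card_ge (le_inf inf_le_left hfix) hcard.le
    have hnorm' : stabilizer G β ≤ Subgroup.normalizer (D : Set G) := fun x hx => by
      refine mem_normalizer_of_conj_eq ?_
      rw [heq, Subgroup.smul_inf, conj_eq_of_mem_normalizer (by
          rw [Subgroup.normalizer_eq_top_iff.2 hM]; trivial : x ∈ Subgroup.normalizer (M : Set G)),
        conj_eq_of_mem_normalizer (Subgroup.le_normalizer hx)]
    have htop : Subgroup.normalizer (D : Set G) = ⊤ := by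
      refine (IsPreprimitive.isCoatom_stabilizer_of_isPreprimitive G α).2 _
        (lt_of_le_of_ne hnorm fun e => ?_)
      have hle := hnorm'.trans e.ge
      rcases hle.lt_or_eq with hlt | heq'
      · exact (IsPreprimitive.isCoatom_stabilizer_of_isPreprimitive G α).1
          ((IsPreprimitive.isCoatom_stabilizer_of_isPreprimitive G β).2 _ hlt)
      · exact not_le_stabilizer hH hβ heq'.ge
    exact hMH (eq_bot_of_normal_le_stabilizer (α := α) (Subgroup.normalizer_eq_top_iff.1 htop)
      inf_le_right)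
  · set S := H ⊓ stabilizer G β
    have hSn : S ≤ Subgroup.normalizer (D : Set G) := inf_le_left.trans hnorm
    rcases between hsub hH hβ (A := S ⊔ D) le_sup_left (sup_le inf_le_left inf_le_right) with e | e
    · exact absurd ((le_sup_right.trans e.le).trans inf_le_right) hfix
    · have hm : h ∈ (↑(S ⊔ D) : Set G) := by rw [e]; exact hh
      rw [Subgroup.coe_mul_of_left_le_normalizer_right S D hSn] at hm
      obtain ⟨s, hs, d, hd, rfl⟩ := hm
      refine ⟨s * d * s⁻¹, (Subgroup.mem_normalizer_iff.1 (hSn hs) d).1 hd, ?_⟩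
      have hsβ : s⁻¹ • β = β := (inv_mem (Subgroup.mem_inf.1 hs).2 :)
      rw [mul_smul _ s⁻¹, hsβ]

theorem eq_one_of_mem_centralizer {G : Type*} [Group G] (T : Subgroup G) [IsSimpleGroup T]
    (hnc : ¬ IsMulCommutative T) :
    ∀ z ∈ T, z ∈ Subgroup.centralizer (T : Set G) → z = 1 := by
  intro z hz hzC
  have hz' : (⟨z, hz⟩ : T) ∈ Subgroup.center T :=
    Subgroup.mem_center_iff.2 fun g => Subtype.ext (Subgroup.mem_centralizer_iff.1 hzC g g.2)
  rcases (inferInstance : (Subgroup.center T).Normal).eq_bot_or_eq_top with e | e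
  · rw [e, Subgroup.mem_bot] at hz'
    exact congrArg Subtype.val hz'
  · exact absurd (Subgroup.center_eq_top_iff.1 e) hnc

/-- Two commuting regular simple factors are impossible. -/
theorem diag_false [Finite G] (hsub : SubPrim G α) (T M : Subgroup G) (hM : M.Normal)
    [IsSimpleGroup T] (hnc : ¬ IsMulCommutative T) (hTM : T ≤ M)
    (hdec : ∀ m ∈ M, ∃ t ∈ T, ∃ c ∈ Subgroup.centralizer (T : Set G), m = t * c)
    (htr : ∀ ω, ∃ t ∈ T, t • α = ω) (hreg : ∀ t ∈ T, t • α = α → t = 1)
    (hcov : ∀ x ∈ T, ∃ c ∈ Subgroup.centralizer (T : Set G), x * c ∈ M ⊓ stabilizer G α)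
    (hperm : ∀ h ∈ stabilizer G α, (∀ t ∈ T, h * t * h⁻¹ ∈ T) ∨
      ∀ t ∈ T, h * t * h⁻¹ ∈ Subgroup.centralizer (T : Set G)) : False := by
  set H := stabilizer G α with hHdef
  set C := Subgroup.centralizer (T : Set G) with hCdef
  have hsemi : ∀ c ∈ C, c • α = α → c = 1 := fun c hc => eq_one_of_commute_transitive htr hc
  have hcomm : ∀ t ∈ T, ∀ c ∈ C, t * c = c * t := fun t ht c hc =>
    Subgroup.mem_centralizer_iff.1 hc t ht
  have hTC : ∀ z, z ∈ T → z ∈ C → z = 1 := by
    intro z hz hzC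
    exact eq_one_of_mem_centralizer T hnc z hz hzC
  choose γ hγC hγD using fun x : T => hcov x x.2
  have huniq : ∀ (x : T) (c : G), c ∈ C → (x : G) * c ∈ H → c = γ x := by
    intro x c hc h1
    have h2 := mul_mem (inv_mem (Subgroup.mem_inf.1 (hγD x)).2) h1
    rw [mul_inv_rev, mul_assoc, inv_mul_cancel_left] at h2
    exact (inv_mul_eq_one.1 (hsemi _ (mul_mem (inv_mem (hγC x)) hc) h2)).symm
  let f : T →* G := MonoidHom.mk' (fun x => (x : G) * γ x) fun x y => by
    have e : (x : G) * γ x * ((y : G) * γ y) = ((x * y : T) : G) * (γ x * γ y) := by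
      rw [Subgroup.coe_mul, mul_assoc, ← mul_assoc (γ x), ← hcomm y y.2 _ (hγC x)]
      simp only [mul_assoc]
    have h1 : (x : G) * γ x * ((y : G) * γ y) ∈ H :=
      mul_mem (Subgroup.mem_inf.1 (hγD x)).2 (Subgroup.mem_inf.1 (hγD y)).2
    rw [e] at h1
    show ((x * y : T) : G) * γ (x * y) = (x : G) * γ x * ((y : G) * γ y)
    rw [e, huniq _ _ (mul_mem (hγC x) (hγC y)) h1]
  have hf : ∀ x, f x = (x : G) * γ x := fun _ => rfl
  have hfD : ∀ x, f x ∈ M ⊓ H := hγD
  have hfinj : Function.Injective f := by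
    rw [injective_iff_map_eq_one]
    intro x hx
    rw [hf, mul_eq_one_iff_eq_inv] at hx
    exact Subtype.ext (hTC x x.2 (hx ▸ inv_mem (hγC x)))
  have hrange : f.range = M ⊓ H := by
    refine le_antisymm (by rintro _ ⟨x, rfl⟩; exact hfD x) fun d hd => ?_
    obtain ⟨t, ht, c, hc, rfl⟩ := hdec d (Subgroup.mem_inf.1 hd).1
    exact ⟨⟨t, ht⟩, by rw [hf, huniq ⟨t, ht⟩ c hc (Subgroup.mem_inf.1 hd).2]⟩
  have hfact : ∀ x t : T, f x • (t : G) • α = ((x * t * x⁻¹ : T) : G) • α := by
    intro x t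
    have h1 : ((x : G) * γ x) • α = α := (Subgroup.mem_inf.1 (hγD x)).2
    conv_rhs => rw [← h1]
    rw [hf, ← mul_smul, ← mul_smul]
    congr 1
    rw [mul_assoc, ← hcomm t t.2 _ (hγC x), Subgroup.coe_mul, Subgroup.coe_mul, Subgroup.coe_inv]
    group
  have hinj : ∀ a b : T, (a : G) • α = (b : G) • α → a = b := by
    intro a b e
    have h1 : ((b : G)⁻¹ * a) • α = α := by rw [mul_smul, e, inv_smul_smul]
    exact Subtype.ext (inv_mul_eq_one.1 (hreg _ (mul_mem (inv_mem b.2) a.2) h1)).symm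
  set D := f.range
  have hD : D = M ⊓ H := hrange
  have hne : ∀ t : T, t ≠ 1 → (t : G) • α ≠ α := fun t ht e => ht (Subtype.ext (hreg t t.2 e))
  have hH : H ≠ ⊥ := by
    intro e
    have : Nontrivial T := IsSimpleGroup.toNontrivial
    obtain ⟨x, hx⟩ := exists_ne (1 : T)
    refine hx (hfinj ((Subgroup.mem_bot.1 (e ▸ (Subgroup.mem_inf.1 (hfD x)).2)).trans (map_one f).symm))
  -- the stabilizer in `D` of `t • α` is the image of the centralizer of `t`
  have hCe : ∀ t : T, D ⊓ stabilizer G ((t : G) • α) =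
      (Subgroup.centralizer ({t} : Set T)).map f := by
    intro t
    ext y
    constructor
    · rintro ⟨⟨x, rfl⟩, hy⟩
      refine ⟨x, Subgroup.mem_centralizer_singleton_iff.2 (mul_inv_eq_iff_eq_mul.1 ?_), rfl⟩
      exact hinj _ _ ((hfact x t).symm.trans hy)
    · rintro ⟨x, hx, rfl⟩
      refine ⟨⟨x, rfl⟩, ?_⟩
      show f x • (t : G) • α = (t : G) • α
      rw [hfact, mul_inv_eq_iff_eq_mul.2 (Subgroup.mem_centralizer_singleton_iff.1 hx)]
  refine false_of_centralizers hnc (fun t ht => ?_) (fun t i hti => ?_)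
  · set S := H ⊓ stabilizer G ((t : G) • α)
    set Ce := D ⊓ stabilizer G ((t : G) • α)
    set X := D ⊓ Subgroup.normalizer (Ce : Set G)
    have hDH : D ≤ H := hD.le.trans inf_le_right
    have hSD : ∀ s ∈ H, MulAut.conj s • D = D := fun s hs => by
      rw [hD, Subgroup.smul_inf, conj_eq_of_mem_normalizer (by
          rw [Subgroup.normalizer_eq_top_iff.2 hM]; trivial : s ∈ Subgroup.normalizer (M : Set G)),
        conj_eq_of_mem_normalizer (Subgroup.le_normalizer hs)]
    have hSX : S ≤ Subgroup.normalizer (X : Set G) := by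
      intro s hs
      have hsCe : MulAut.conj s • Ce = Ce := by
        rw [Subgroup.smul_inf, hSD s (Subgroup.mem_inf.1 hs).1,
          conj_eq_of_mem_normalizer (Subgroup.le_normalizer (Subgroup.mem_inf.1 hs).2)]
      refine mem_normalizer_of_conj_eq ?_
      rw [Subgroup.smul_inf, hSD s (Subgroup.mem_inf.1 hs).1]
      congr 1
      exact conj_eq_of_mem_normalizer (Subgroup.le_normalizer (mem_normalizer_of_conj_eq hsCe))
    refine le_antisymm (fun x hx => ?_) Subgroup.le_normalizer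
    have hfxX : f x ∈ X := by
      refine Subgroup.mem_inf.2 ⟨⟨x, rfl⟩, ?_⟩
      show f x ∈ Subgroup.normalizer (Ce : Set G)
      rw [show Ce = (Subgroup.centralizer ({t} : Set T)).map f from hCe t]
      exact Subgroup.le_normalizer_map f ⟨x, hx, rfl⟩
    rcases between hsub hH (hne t ht) (A := S ⊔ X) le_sup_left
      (sup_le inf_le_left (inf_le_left.trans hDH)) with e | e
    · have h1 : f x ∈ Ce := Subgroup.mem_inf.2 ⟨⟨x, rfl⟩,
        (Subgroup.mem_inf.1 (e.le (Subgroup.mem_sup_right hfxX))).2⟩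
      rw [show Ce = (Subgroup.centralizer ({t} : Set T)).map f from hCe t] at h1
      obtain ⟨y, hy, hyx⟩ := h1
      exact hfinj hyx ▸ hy
    · exfalso
      have hDX : D ≤ Subgroup.normalizer (Ce : Set G) := by
        intro d hd
        have hm : d ∈ (↑(S ⊔ X) : Set G) := by rw [e]; exact hDH hd
        rw [Subgroup.coe_mul_of_left_le_normalizer_right S X hSX] at hm
        obtain ⟨s, hs, y, hy, rfl⟩ := hm
        have hsD : s ∈ D := by
          have := mul_mem hd (inv_mem (Subgroup.mem_inf.1 hy).1)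
          rwa [mul_inv_cancel_right] at this
        exact mul_mem (Subgroup.le_normalizer (Subgroup.mem_inf.2 ⟨hsD, (Subgroup.mem_inf.1 hs).2⟩))
          (Subgroup.mem_inf.1 hy).2
      have hCn : (Subgroup.centralizer ({t} : Set T)).Normal := by
        refine ⟨fun c hc z => ?_⟩
        have h1 := (Subgroup.mem_normalizer_iff.1 (hDX ⟨z, rfl⟩) (f c)).1
          (by rw [show Ce = _ from hCe t]; exact ⟨c, hc, rfl⟩)
        rw [show Ce = (Subgroup.centralizer ({t} : Set T)).map f from hCe t, ← map_inv, ← map_mul,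
          ← map_mul] at h1
        obtain ⟨y, hy, hyx⟩ := h1
        exact hfinj hyx ▸ hy
      have htt : t ∈ Subgroup.centralizer ({t} : Set T) := Subgroup.mem_centralizer_singleton_iff.2 rfl
      rcases hCn.eq_bot_or_eq_top with e' | e'
      · exact ht (Subgroup.mem_bot.1 (e' ▸ htt))
      · refine ht (Subtype.ext (hTC t t.2 (Subgroup.mem_centralizer_iff.2 fun z hz => ?_)))
        have h2 : (⟨z, hz⟩ : T) ∈ Subgroup.centralizer ({t} : Set T) := e' ▸ Subgroup.mem_top _
        exact congrArg Subtype.val (Subgroup.mem_centralizer_singleton_iff.1 h2)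
  · have ht : t ≠ 1 := fun e => hti (by rw [e, one_pow])
    have hle : H ⊓ stabilizer G ((t : G) • α) ≤ H ⊓ stabilizer G (((t ^ i : T) : G) • α) := by
      rintro h ⟨hh, hfix⟩
      refine ⟨hh, ?_⟩
      have hfix' : (h * t * h⁻¹) • α = (t : G) • α := by
        have hhα : h⁻¹ • α = α := (inv_mem (show h ∈ H from hh) :)
        rw [mul_smul, mul_smul, hhα]; exact hfix
      show h • ((t ^ i : T) : G) • α = ((t ^ i : T) : G) • α
      have e : h • ((t ^ i : T) : G) • α = (h * t * h⁻¹) ^ i • α := by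
        have hhα : h⁻¹ • α = α := (inv_mem (show h ∈ H from hh) :)
        rw [conj_pow, mul_smul, mul_smul, hhα, Subgroup.coe_pow]
      rw [e, Subgroup.coe_pow]
      rcases hperm h hh with hT | hT
      · rw [show h * t * h⁻¹ = (t : G) from congrArg Subtype.val
          (hinj ⟨_, hT t t.2⟩ t hfix')]
      · have hc : Commute ((t : G)⁻¹) (h * t * h⁻¹) :=
          (show Commute (t : G) (h * t * h⁻¹) from hcomm t t.2 _ (hT t t.2)).inv_left
        have h1 : ((t : G)⁻¹ * (h * t * h⁻¹)) • α = α := by rw [mul_smul, hfix', inv_smul_smul]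
        have h2 : ((t : G)⁻¹ * (h * t * h⁻¹)) ^ i ∈ stabilizer G α := pow_mem h1 i
        rw [hc.mul_pow, mem_stabilizer_iff, mul_smul, inv_pow, inv_smul_eq_iff] at h2
        exact h2
    have heq : H ⊓ stabilizer G (((t ^ i : T) : G) • α) = H ⊓ stabilizer G ((t : G) • α) := by
      rcases between hsub hH (hne t ht) hle inf_le_left with e | e
      · exact e
      · exact absurd (e.ge.trans inf_le_right) (not_le_stabilizer hH (hne _ hti))
    have hDH : D ⊓ H = D := inf_eq_left.2 (hD.le.trans inf_le_right)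
    refine Subgroup.map_injective hfinj ?_
    rw [← hCe, ← hCe, ← hDH, inf_assoc, inf_assoc, heq]

theorem not_isMulCommutative_of_not (T : Subgroup G) (h : ¬ ∀ a ∈ T, ∀ b ∈ T, a * b = b * a) :
    ¬ IsMulCommutative T := fun hc =>
  h fun a ha b hb => congrArg Subtype.val (hc.1.1 (⟨a, ha⟩ : T) ⟨b, hb⟩)

theorem affine_or_almost_simple [Finite G] (hsub : SubPrim G α) :
    (∃ N : Subgroup G, N.Normal ∧ N ≠ ⊥ ∧ IsMulCommutative N ∧ ∀ ω : Ω, stabilizer N ω = ⊥) ∨
      (∃ T : Subgroup G, T.Normal ∧ IsSimpleGroup T ∧ ¬ IsMulCommutative T ∧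
        Subgroup.centralizer (T : Set G) = ⊥) := by
  classical
  have hGtop : (⊤ : Subgroup G) ≠ ⊥ := by
    intro e
    obtain ⟨x, y, hxy⟩ := exists_pair_ne Ω
    obtain ⟨g, rfl⟩ := exists_smul_eq G x y
    exact hxy (by rw [Subgroup.mem_bot.1 ((SetLike.ext_iff.1 e g).1 (Subgroup.mem_top g)), one_smul])
  -- a minimal normal subgroup
  obtain ⟨N, ⟨hNn, hN0⟩, hNmin⟩ := wellFounded_lt.has_min
    {X : Subgroup G | X.Normal ∧ X ≠ ⊥} ⟨⊤, inferInstance, hGtop⟩
  have hmin : ∀ X : Subgroup G, X.Normal → X ≤ N → X = ⊥ ∨ X = N := fun X hX hle =>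
    or_iff_not_imp_left.2 fun h0 => hle.lt_or_eq.resolve_left fun hlt => hNmin X ⟨hX, h0⟩ hlt
  have hNtr : ∀ ω, ∃ n ∈ N, n • α = ω := transitive_of_normal hNn hN0 α
  by_cases hab : ∀ a ∈ N, ∀ b ∈ N, a * b = b * a
  · refine Or.inl ⟨N, hNn, hN0, ⟨⟨fun a b => Subtype.ext (hab a a.2 b b.2)⟩⟩, fun ω => ?_⟩
    rw [Subgroup.eq_bot_iff_forall]
    intro n hn
    exact Subtype.ext (eq_one_of_commute_transitive (transitive_of_normal hNn hN0 ω)
      (Subgroup.mem_centralizer_iff.2 fun m hm => hab m hm n n.2) hn)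
  -- a minimal normal subgroup of `N`
  have : Nontrivial N := (Subgroup.nontrivial_iff_ne_bot N).2 hN0
  obtain ⟨T0, ⟨hT0n, hT00⟩, hT0min⟩ := wellFounded_lt.has_min
    {X : Subgroup N | X.Normal ∧ X ≠ ⊥} ⟨⊤, inferInstance, top_ne_bot⟩
  set T := T0.map N.subtype with hTdef
  have hTN : T ≤ N := Subgroup.map_subtype_le T0
  have hT : T ≠ ⊥ := fun e =>
    hT00 ((Subgroup.map_eq_bot_iff_of_injective _ N.subtype_injective).1 e)
  have hTnorm : N ≤ Subgroup.normalizer (T : Set G) := fun n hn =>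
    Subgroup.le_normalizer_map N.subtype
      ⟨⟨n, hn⟩, by rw [Subgroup.normalizer_eq_top_iff.2 hT0n]; trivial, rfl⟩
  have hTmin : ∀ X : Subgroup G, X ≤ T → N ≤ Subgroup.normalizer (X : Set G) → X = ⊥ ∨ X = T := by
    intro X hXT hXn
    have hX'n : (X.subgroupOf N).Normal := Subgroup.normal_subgroupOf_of_le_normalizer hXn
    have hX'le : X.subgroupOf N ≤ T0 := fun x hx => by
      obtain ⟨y, hy, hyx⟩ := hXT (Subgroup.mem_subgroupOf.1 hx)
      exact Subtype.ext hyx ▸ hy
    have hXe := Subgroup.map_subgroupOf_eq_of_le (hXT.trans hTN)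
    rcases hX'le.lt_or_eq with hlt | he
    · left
      by_contra hX0
      exact hT0min _ ⟨hX'n, fun e => hX0 (by rw [← hXe, e, Subgroup.map_bot])⟩ hlt
    · right
      rw [← hXe, he]
  set H := stabilizer G α
  set cj : G → Subgroup G := fun h => MulAut.conj h • T
  have hcjN : ∀ h, cj h ≤ N := fun h x hx => by
    rw [mem_conj_smul_iff] at hx
    have := hNn.conj_mem _ (hTN hx) h
    simpa [mul_assoc] using this
  have hcjn : ∀ h, N ≤ Subgroup.normalizer (cj h : Set G) := fun h n hn => by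
    refine mem_normalizer_of_conj_eq ?_
    show MulAut.conj n • MulAut.conj h • T = MulAut.conj h • T
    have h1 : h⁻¹ * n * h ∈ N := by simpa using hNn.conj_mem n hn h⁻¹
    conv_rhs => rw [← conj_eq_of_mem_normalizer (hTnorm h1)]
    rw [smul_smul, smul_smul, ← map_mul, ← map_mul]
    congr 2
    group
  have hcj1 : cj 1 = T := by show MulAut.conj (1 : G) • T = T; rw [map_one, one_smul]
  have hgen : ∀ X : Subgroup G, (∀ h ∈ H, cj h ≤ X) → N ≤ X := by
    intro X hX
    set Y := ⨆ h : H, cj (h : G) with hYdef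
    have hTY : T ≤ Y := hcj1 ▸ le_iSup (fun h : H => cj (h : G)) 1
    have hYN : Y ≤ N := iSup_le fun h => hcjN h
    have hNY : N ≤ Subgroup.normalizer (Y : Set G) := fun n hn => by
      refine mem_normalizer_of_conj_eq ?_
      rw [hYdef]
      show (⨆ h : H, cj (h : G)).map (MulAut.conj n).toMonoidHom = _
      rw [Subgroup.map_iSup]
      exact iSup_congr fun h => conj_eq_of_mem_normalizer (hcjn h hn)
    have hHY : H ≤ Subgroup.normalizer (Y : Set G) := fun k hk => by
      refine mem_normalizer_of_conj_eq ?_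
      rw [hYdef]
      show (⨆ h : H, cj (h : G)).map (MulAut.conj k).toMonoidHom = _
      rw [Subgroup.map_iSup]
      refine le_antisymm (iSup_le fun h => ?_) (iSup_le fun h => ?_)
      · refine le_iSup_of_le ⟨k * h, mul_mem hk h.2⟩ (le_of_eq ?_)
        show MulAut.conj k • MulAut.conj (h : G) • T = MulAut.conj (k * h) • T
        rw [smul_smul, ← map_mul]
      · refine le_iSup_of_le ⟨k⁻¹ * h, mul_mem (inv_mem hk) h.2⟩ (le_of_eq ?_)
        show MulAut.conj (h : G) • T = MulAut.conj k • MulAut.conj (k⁻¹ * h) • T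
        rw [smul_smul, ← map_mul, mul_inv_cancel_left]
    have hYn : Y.Normal := by
      rw [← Subgroup.normalizer_eq_top_iff, eq_top_iff]
      intro g _
      obtain ⟨n, hn, hng⟩ := hNtr (g • α)
      have h1 : n⁻¹ * g ∈ H := by
        show (n⁻¹ * g) • α = α
        rw [mul_smul, ← hng, inv_smul_smul]
      have := mul_mem (hNY hn) (hHY h1)
      rwa [mul_inv_cancel_left] at this
    rcases hmin Y hYn hYN with e | e
    · exact absurd (le_bot_iff.1 (e ▸ hTY)) hT
    · exact e ▸ iSup_le fun h => hX h h.2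
  have hdis : ∀ a b : G, cj a ≠ cj b → cj a ⊓ cj b = ⊥ := by
    intro a b hne
    set X := cj a ⊓ cj b with hXdef
    have hXn : ∀ n ∈ N, MulAut.conj n • X = X := fun n hn => by
      rw [hXdef, Subgroup.smul_inf, conj_eq_of_mem_normalizer (hcjn a hn),
        conj_eq_of_mem_normalizer (hcjn b hn)]
    have key : ∀ c : G, X ≤ cj c → X = ⊥ ∨ X = cj c := by
      intro c hc
      have hle : MulAut.conj c⁻¹ • X ≤ T := by
        have h1 : MulAut.conj c⁻¹ • X ≤ MulAut.conj c⁻¹ • cj c :=
          Subgroup.pointwise_smul_le_pointwise_smul_iff.2 hc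
        rwa [show cj c = MulAut.conj c • T from rfl, smul_smul, ← map_mul, inv_mul_cancel, map_one,
          one_smul] at h1
      have hnorm : N ≤ Subgroup.normalizer ((MulAut.conj c⁻¹ • X : Subgroup G) : Set G) := by
        intro n hn
        refine mem_normalizer_of_conj_eq ?_
        conv_rhs => rw [← hXn _ (hNn.conj_mem n hn c)]
        rw [smul_smul, smul_smul, ← map_mul, ← map_mul]
        congr 2
        group
      rcases hTmin _ hle hnorm with e | e
      · left
        have h1 := congrArg (MulAut.conj c • ·) e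
        simp only [smul_smul, ← map_mul, mul_inv_cancel, map_one, one_smul, Subgroup.smul_bot] at h1
        exact h1
      · right
        have h1 := congrArg (MulAut.conj c • ·) e
        simp only [smul_smul, ← map_mul, mul_inv_cancel, map_one, one_smul] at h1
        exact h1
    rcases key a inf_le_left with e | e
    · exact e
    rcases key b inf_le_right with e' | e'
    · exact e'
    exact absurd (e.symm.trans e') hne
  have hcomm : ∀ a b : G, cj a ≠ cj b → ∀ x ∈ cj a, ∀ y ∈ cj b, x * y = y * x := by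
    intro a b hne x hx y hy
    have h1 : x * y * x⁻¹ * y⁻¹ ∈ cj a ⊓ cj b := by
      refine Subgroup.mem_inf.2 ⟨?_, ?_⟩
      · have := (Subgroup.mem_normalizer_iff.1 (hcjn a (hcjN b hy)) x⁻¹).1 (inv_mem hx)
        have h2 := mul_mem hx this
        simpa [mul_assoc] using h2
      · exact mul_mem ((Subgroup.mem_normalizer_iff.1 (hcjn b (hcjN a hx)) y).1 hy) (inv_mem hy)
    rw [hdis a b hne, Subgroup.mem_bot, mul_inv_eq_one, mul_inv_eq_iff_eq_mul] at h1
    exact h1
  have hconj : ∀ h : G, ∀ t ∈ T, h * t * h⁻¹ ∈ cj h := fun h t ht => conj_mem_conj_smul h ht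
  have hTab : ¬ ∀ a ∈ T, ∀ b ∈ T, a * b = b * a := by
    intro hT'
    have hall : ∀ a b : G, ∀ x ∈ cj a, ∀ y ∈ cj b, x * y = y * x := by
      intro a b x hx y hy
      by_cases hne : cj a = cj b
      · rw [← hne] at hy
        rw [mem_conj_smul_iff] at hx hy
        have h1 := hT' _ hx _ hy
        calc x * y = a * (a⁻¹ * x * a * (a⁻¹ * y * a)) * a⁻¹ := by group
          _ = a * (a⁻¹ * y * a * (a⁻¹ * x * a)) * a⁻¹ := by rw [h1]
          _ = y * x := by group
      · exact hcomm a b hne x hx y hy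
    have h1 : N ≤ Subgroup.centralizer (N : Set G) := hgen _ fun b _ =>
      Subgroup.le_centralizer_iff.1 (hgen _ fun a _ x hx =>
        Subgroup.mem_centralizer_iff.2 fun y hy => hall b a y hy x hx)
    exact hab fun a ha b hb => Subgroup.mem_centralizer_iff.1 (h1 hb) a ha
  have hnc : ¬ IsMulCommutative T := not_isMulCommutative_of_not T hTab
  have hTsimple : IsSimpleGroup T := by
    have : Nontrivial T := (Subgroup.nontrivial_iff_ne_bot T).2 hT
    refine IsSimpleGroup.mk fun X' hX' => ?_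
    set X := X'.map T.subtype with hXdef
    have hXT : X ≤ T := Subgroup.map_subtype_le X'
    have hNX : N ≤ Subgroup.normalizer (X : Set G) := by
      refine hgen _ fun h hh => ?_
      by_cases he : cj h = T
      · rw [he]
        intro t ht
        exact Subgroup.le_normalizer_map T.subtype
          ⟨⟨t, ht⟩, by rw [Subgroup.normalizer_eq_top_iff.2 hX']; trivial, rfl⟩
      · intro y hy
        refine Subgroup.mem_normalizer_iff.2 fun x => ?_
        have key : ∀ z ∈ T, y * z * y⁻¹ = z := fun z hz => by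
          rw [hcomm h 1 (hcj1.symm ▸ he) y hy z (hcj1.symm ▸ hz), mul_inv_cancel_right]
        refine ⟨fun hx => (key x (hXT hx)).symm ▸ hx, fun hx => ?_⟩
        have h1 := key _ (hXT hx)
        have : y * x * y⁻¹ = x := by simpa using h1
        rwa [this] at hx
    rcases hTmin X hXT hNX with e | e
    · exact Or.inl ((Subgroup.map_eq_bot_iff_of_injective _ T.subtype_injective).1 e)
    · refine Or.inr (Subgroup.map_injective T.subtype_injective ?_)
      rw [← MonoidHom.range_eq_map, Subgroup.range_subtype]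
      exact e
  by_cases hone : ∀ h ∈ H, cj h = T
  · have hNT : N = T := le_antisymm (hgen T fun h hh => (hone h hh).le) hTN
    by_cases hC : Subgroup.centralizer (N : Set G) = ⊥
    · exact Or.inr ⟨T, hNT ▸ hNn, hTsimple, hnc, hNT ▸ hC⟩
    exfalso
    set C := Subgroup.centralizer (N : Set G) with hCdef
    have hCn : C.Normal := inferInstance
    have hCtr : ∀ ω, ∃ c ∈ C, c • α = ω := transitive_of_normal hCn hC α
    refine diag_false hsub T (N ⊔ C) inferInstance hnc (hTN.trans le_sup_left) (fun m hm => ?_)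
      (fun ω => hNT ▸ hNtr ω) (fun t ht htα => ?_) (fun x hx => ?_)
      (fun h _ => Or.inl fun t ht => hNT ▸ hNn.conj_mem t (hTN ht) h)
    · obtain ⟨t, ht, c, hc, rfl⟩ := Subgroup.mem_sup_of_normal_left.1 hm
      exact ⟨t, hNT ▸ ht, c, hNT ▸ hc, rfl⟩
    · refine eq_one_of_commute_transitive hCtr (Subgroup.mem_centralizer_iff.2 fun c hc => ?_) htα
      exact (Subgroup.mem_centralizer_iff.1 hc t (hTN ht)).symm
    · obtain ⟨c, hc, hcα⟩ := hCtr (x⁻¹ • α)
      refine ⟨c, hNT ▸ hc, Subgroup.mem_inf.2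
        ⟨mul_mem (Subgroup.mem_sup_left (hTN hx)) (Subgroup.mem_sup_right hc), ?_⟩⟩
      show (x * c) • α = α
      rw [mul_smul, hcα, smul_inv_smul]
  exfalso
  push Not at hone
  obtain ⟨h0, hh0, hne0⟩ := hone
  have hH : H ≠ ⊥ := fun e => by
    rw [e, Subgroup.mem_bot] at hh0
    exact hne0 (hh0 ▸ hcj1)
  have hTH : ¬ T ≤ H := fun hle => by
    refine hN0 (eq_bot_of_normal_le_stabilizer (α := α) hNn (hgen H fun h hh => ?_))
    intro x hx
    rw [mem_conj_smul_iff] at hx
    have h1 := mul_mem (mul_mem hh (hle hx)) (inv_mem hh)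
    simpa [mul_assoc] using h1
  have hTC := eq_one_of_mem_centralizer T hnc
  by_cases hNH : N ⊓ H = ⊥
  · have hregN : ∀ m ∈ N, m • α = α → m = 1 := fun m hm hmα =>
      (Subgroup.eq_bot_iff_forall _).1 hNH m (Subgroup.mem_inf.2 ⟨hm, hmα⟩)
    obtain ⟨t, ht, ht1⟩ := T.bot_or_exists_ne_one.resolve_left hT
    have htα : t • α ≠ α := fun e => ht1 (hregN t (hTN ht) e)
    have hfix : ∀ h ∈ H, h * t * h⁻¹ ∈ N := fun h _ => hNn.conj_mem t (hTN ht) h
    have hactx : ∀ h ∈ H, (h * t * h⁻¹) • α = h • t • α := fun h hh => by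
      have hhα : h⁻¹ • α = α := (inv_mem hh :)
      rw [mul_smul, mul_smul, hhα]
    have hCt : ∀ h ∈ H, h • t • α = t • α → h * t * h⁻¹ = t := by
      intro h hh e
      have h1 : (t⁻¹ * (h * t * h⁻¹)) • α = α := by rw [mul_smul, hactx h hh, e, inv_smul_smul]
      exact (inv_mul_eq_one.1 (hregN _ (mul_mem (inv_mem (hTN ht)) (hfix h hh)) h1)).symm
    have hA1 : H ⊓ stabilizer G (t • α) ≤ H ⊓ Subgroup.normalizer (T : Set G) := by
      rintro h ⟨hh, he⟩
      refine ⟨hh, mem_normalizer_of_conj_eq ?_⟩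
      show cj h = T
      by_contra hne
      have h1 : t ∈ cj h ⊓ cj 1 := by
        refine Subgroup.mem_inf.2 ⟨?_, hcj1.symm ▸ ht⟩
        have h2 := hconj h t ht
        rwa [hCt h hh he] at h2
      rw [hdis h 1 (hcj1.symm ▸ hne), Subgroup.mem_bot] at h1
      exact ht1 h1
    have hA2 : ∀ h ∈ H, cj h = T → h * t * h⁻¹ = t := by
      intro h hh he
      rcases between hsub hH htα hA1 inf_le_left with e | e
      · exact hCt h hh (Subgroup.mem_inf.1 (e.le (Subgroup.mem_inf.2
          ⟨hh, mem_normalizer_of_conj_eq he⟩))).2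
      · exact absurd (conj_eq_of_mem_normalizer (Subgroup.mem_inf.1 (e.ge hh0)).2) hne0
    have hA3 : ∀ a ∈ H, ∀ b ∈ H, cj a = cj b → a * t * a⁻¹ = b * t * b⁻¹ := by
      intro a ha b hb he
      have h1 : cj (b⁻¹ * a) = T := by
        show MulAut.conj (b⁻¹ * a) • T = T
        rw [map_mul, mul_smul, show MulAut.conj a • T = MulAut.conj b • T from he, smul_smul,
          ← map_mul, inv_mul_cancel, map_one, one_smul]
      have h2 := hA2 _ (mul_mem (inv_mem hb) ha) h1
      calc a * t * a⁻¹ = b * (b⁻¹ * a * t * (b⁻¹ * a)⁻¹) * b⁻¹ := by group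
        _ = b * t * b⁻¹ := by rw [h2]
    have : Fintype H := Fintype.ofFinite _
    set O : Finset G := Finset.univ.image fun h : H => (h : G) * t * (h : G)⁻¹ with hOdef
    have hO : ∀ x, x ∈ O ↔ ∃ h ∈ H, h * t * h⁻¹ = x := fun x => by
      rw [hOdef, Finset.mem_image]
      exact ⟨fun ⟨h, _, e⟩ => ⟨h, h.2, e⟩, fun ⟨h, hh, e⟩ => ⟨⟨h, hh⟩, Finset.mem_univ _, e⟩⟩
    have hOc : (O : Set G).Pairwise (Function.onFun Commute id) := by
      intro x hx y hy hxy
      obtain ⟨a, ha, rfl⟩ := (hO x).1 hx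
      obtain ⟨b, hb, rfl⟩ := (hO y).1 hy
      exact hcomm a b (fun e => hxy (hA3 a ha b hb e)) _ (hconj a t ht) _ (hconj b t ht)
    set n := O.noncommProd id hOc with hndef
    have hnN : n ∈ N := Subgroup.noncommProd_mem N hOc fun x hx => by
      obtain ⟨a, ha, rfl⟩ := (hO x).1 hx
      exact hfix a ha
    have hnconj : ∀ k ∈ H, k * n * k⁻¹ = n := by
      intro k hk
      have himg : O.image (MulAut.conj k) = O := by
        refine Finset.eq_of_subset_of_card_le (fun y hy => ?_)
          (le_of_eq (Finset.card_image_of_injective _ (MulAut.conj k).injective).symm)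
        obtain ⟨x, hx, rfl⟩ := Finset.mem_image.1 hy
        obtain ⟨a, ha, rfl⟩ := (hO x).1 hx
        refine (hO _).2 ⟨k * a, mul_mem hk ha, ?_⟩
        rw [MulAut.conj_apply]
        group
      have hval : O.1.map (MulAut.conj k) = O.1 :=
        (Finset.image_val_of_injOn (MulAut.conj k).injective.injOn).symm.trans
          (congrArg Finset.val himg)
      rw [← MulAut.conj_apply, hndef, Finset.map_noncommProd]
      unfold Finset.noncommProd
      congr 1
      rw [Multiset.map_id]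
      exact hval
    have htO : t ∈ O := (hO t).2 ⟨1, one_mem _, by simp⟩
    have hn1 : n ≠ 1 := by
      intro e
      rw [hndef, ← Finset.mul_noncommProd_erase O htO id hOc, id, mul_eq_one_iff_eq_inv] at e
      refine ht1 (hTC t ht ?_)
      rw [e]
      refine inv_mem (Subgroup.noncommProd_mem _ _ fun x hx => ?_)
      obtain ⟨hxt, hxO⟩ := Finset.mem_erase.1 hx
      obtain ⟨a, ha, rfl⟩ := (hO x).1 hxO
      refine Subgroup.mem_centralizer_iff.2 fun z hz => ?_
      exact hcomm 1 a (fun e' => hxt (hA2 a ha (e'.symm.trans hcj1))) z (hcj1.symm ▸ hz) _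
        (hconj a t ht)
    refine not_le_stabilizer hH (β := n • α) (fun e => hn1 (hregN n hnN e)) fun h hh => ?_
    have hhα : h⁻¹ • α = α := (inv_mem hh :)
    show h • n • α = n • α
    conv_rhs => rw [← hnconj h hh, mul_smul, mul_smul, hhα]
  -- the socle is not regular
  have key : ∀ a ∈ H, ∀ b ∈ H, ∀ s ∈ cj a, ∃ b' ∈ cj b, b' * s ∈ N ⊓ H := by
    intro a ha b hb s hs
    set k := b * a⁻¹ with hk
    have hkH : k ∈ H := mul_mem hb (inv_mem ha)
    set g := k * s * k⁻¹ with hgdef
    have hgB : g ∈ cj b := by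
      rw [mem_conj_smul_iff] at hs ⊢
      convert hs using 1
      rw [hgdef, hk]
      group
    have hkα : k • α = α := hkH
    have hsg : s • α = k⁻¹ • g • α := by
      conv_lhs => rw [← show k⁻¹ • α = α from (inv_mem hkH :)]
      rw [hgdef, ← mul_smul, ← mul_smul]
      congr 1
      group
    by_cases hgα : g • α = α
    · refine ⟨1, one_mem _, ?_⟩
      rw [one_mul]
      refine Subgroup.mem_inf.2 ⟨hcjN a hs, ?_⟩
      show s • α = α
      rw [hsg, hgα, inv_smul_eq_iff, hkα]
    · obtain ⟨d, hd, hde⟩ := exists_mem_smul_eq hsub hNn hNH hgα (inv_mem hkH)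
      have hb' : d * g * d⁻¹ ∈ cj b :=
        (Subgroup.mem_normalizer_iff.1 (hcjn b (Subgroup.mem_inf.1 hd).1) g).1 hgB
      refine ⟨_, inv_mem hb', Subgroup.mem_inf.2
        ⟨mul_mem (inv_mem (hcjN b hb')) (hcjN a hs), ?_⟩⟩
      show ((d * g * d⁻¹)⁻¹ * s) • α = α
      have hdα : d⁻¹ • α = α := (inv_mem (Subgroup.mem_inf.1 hd).2 :)
      rw [mul_smul, inv_smul_eq_iff, hsg, hde, mul_smul (d * g) d⁻¹, mul_smul d g, hdα]
  set T2 := cj h0 with hT2
  have hT12 : ∀ x ∈ T, ∀ y ∈ T2, x * y = y * x := fun x hx y hy =>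
    hcomm 1 h0 (fun e => hne0 (e.symm.trans hcj1)) x (hcj1.symm ▸ hx) y hy
  by_cases hthree : ∃ h1 ∈ H, cj h1 ≠ T ∧ cj h1 ≠ T2
  · obtain ⟨h1, hh1, hne1, hne12⟩ := hthree
    have hT13 : ∀ x ∈ T, ∀ y ∈ cj h1, x * y = y * x := fun x hx y hy =>
      hcomm 1 h1 (fun e => hne1 (e.symm.trans hcj1)) x (hcj1.symm ▸ hx) y hy
    have hle : commutator T ≤ H.subgroupOf T := by
      rw [commutator_def, Subgroup.commutator_le]
      rintro x - y -
      obtain ⟨b, hb, hbx⟩ := key 1 (one_mem _) h0 hh0 x (hcj1.symm ▸ x.2)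
      obtain ⟨c, hc, hcy⟩ := key 1 (one_mem _) h1 hh1 y (hcj1.symm ▸ y.2)
      have hxH : b * (x : G) ∈ H := (Subgroup.mem_inf.1 hbx).2
      have hyH : c * (y : G) ∈ H := (Subgroup.mem_inf.1 hcy).2
      have hm := mul_mem (mul_mem (mul_mem hxH hyH) (inv_mem hxH)) (inv_mem hyH)
      have hbc : b * c = c * b := hcomm h0 h1 (fun e => hne12 e.symm) b hb c hc
      have hbT : ∀ z ∈ T, b * z = z * b := fun z hz => (hT12 z hz b hb).symm
      have hcT : ∀ z ∈ T, c * z = z * c := fun z hz => (hT13 z hz c hc).symm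
      rw [Subgroup.mem_subgroupOf, commutatorElement_def]
      have h1 : b * x * c * (b * x)⁻¹ = c := by
        rw [mul_assoc b, ← hcT x x.2, ← mul_assoc b, hbc]
        group
      have h2 : b * x * y * (b * x)⁻¹ = (x : G) * y * (x : G)⁻¹ := by
        rw [show b * x * y * (b * x)⁻¹ = b * ((x : G) * y * (x : G)⁻¹) * b⁻¹ by group,
          hbT _ (mul_mem (mul_mem x.2 y.2) (inv_mem x.2)), mul_inv_cancel_right]
      have h3 : b * x * (c * y) * (b * x)⁻¹ * (c * y)⁻¹ = (x : G) * y * (x : G)⁻¹ * (y : G)⁻¹ := by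
        calc b * x * (c * y) * (b * x)⁻¹ * (c * y)⁻¹
            = (b * x * c * (b * x)⁻¹) * (b * x * y * (b * x)⁻¹) * (c * y)⁻¹ := by group
          _ = c * ((x : G) * y * (x : G)⁻¹ * (y : G)⁻¹) * c⁻¹ := by rw [h1, h2]; group
          _ = _ := by
            rw [hcT _ (mul_mem (mul_mem (mul_mem x.2 y.2) (inv_mem x.2)) (inv_mem y.2)),
              mul_inv_cancel_right]
      rw [h3] at hm
      exact hm
    rcases (inferInstance : (commutator T).Normal).eq_bot_or_eq_top with e | e
    · rw [commutator_def, Subgroup.commutator_eq_bot_iff_le_centralizer] at e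
      exact hnc ⟨⟨fun a b => Subgroup.mem_centralizer_iff.1 (e (Subgroup.mem_top b)) a
        (Subgroup.mem_top a)⟩⟩
    · exact hTH (Subgroup.subgroupOf_eq_top.1 (top_le_iff.1 (e ▸ hle)))
  push Not at hthree
  have hcases : ∀ h ∈ H, cj h = T ∨ cj h = T2 := fun h hh =>
    or_iff_not_imp_left.2 (hthree h hh)
  have hNle : ∀ X : Subgroup G, T ≤ X → T2 ≤ X → N ≤ X := fun X h1 h2 => hgen X fun h hh =>
    (hcases h hh).elim (fun e => e.trans_le h1) fun e => e.trans_le h2
  have hT2C : T2 ≤ Subgroup.centralizer (T : Set G) := fun y hy =>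
    Subgroup.mem_centralizer_iff.2 fun x hx => hT12 x hx y hy
  have hdecN : ∀ n ∈ N, ∃ x ∈ T, ∃ y ∈ T2, n = x * y := by
    intro n hn
    have h1 : n ∈ (↑(T ⊔ T2) : Set G) := hNle (T ⊔ T2) le_sup_left le_sup_right hn
    rw [Subgroup.coe_mul_of_left_le_normalizer_right T T2 (hTN.trans (hcjn h0))] at h1
    obtain ⟨x, hx, y, hy, e⟩ := h1
    exact ⟨x, hx, y, hy, e.symm⟩
  have hregT : T ⊓ H = ⊥ := by
    refine (hTmin _ inf_le_left (hNle _ ?_ ?_)).resolve_right fun e => hTH (inf_eq_left.1 e)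
    · intro x hx
      obtain ⟨b, hb, hbx⟩ := key 1 (one_mem _) h0 hh0 x (hcj1.symm ▸ hx)
      have h1 : b * x ∈ Subgroup.normalizer ((T ⊓ H : Subgroup G) : Set G) := by
        refine mem_normalizer_of_conj_eq ?_
        rw [Subgroup.smul_inf, conj_eq_of_mem_normalizer (hTnorm (Subgroup.mem_inf.1 hbx).1),
          conj_eq_of_mem_normalizer (Subgroup.le_normalizer (Subgroup.mem_inf.1 hbx).2)]
      have h2 : b ∈ Subgroup.normalizer ((T ⊓ H : Subgroup G) : Set G) :=
        Subgroup.mem_normalizer_iff.2 fun z => by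
          constructor
          · intro hz
            rwa [← hT12 z (Subgroup.mem_inf.1 hz).1 b hb, mul_inv_cancel_right]
          · intro hz
            have h3 := hT12 _ (Subgroup.mem_inf.1 hz).1 b hb
            have : b * z * b⁻¹ = z := by simpa [mul_assoc] using h3.symm
            rwa [this] at hz
      simpa using mul_mem (inv_mem h2) h1
    · intro b hb
      refine Subgroup.mem_normalizer_iff.2 fun z => ⟨fun hz => ?_, fun hz => ?_⟩
      · rwa [← hT12 z (Subgroup.mem_inf.1 hz).1 b hb, mul_inv_cancel_right]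
      · have h3 := hT12 _ (Subgroup.mem_inf.1 hz).1 b hb
        have : b * z * b⁻¹ = z := by simpa [mul_assoc] using h3.symm
        rwa [this] at hz
  refine diag_false hsub T N hNn hnc hTN (fun m hm => ?_) (fun ω => ?_) (fun t ht htα => ?_)
    (fun x hx => ?_) (fun h hh => ?_)
  · obtain ⟨x, hx, y, hy, rfl⟩ := hdecN m hm
    exact ⟨x, hx, y, hT2C hy, rfl⟩
  · obtain ⟨n, hn, rfl⟩ := hNtr ω
    obtain ⟨x, hx, y, hy, rfl⟩ := hdecN n hn
    obtain ⟨b, hb, hby⟩ := key h0 hh0 1 (one_mem _) y hy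
    rw [hcj1] at hb
    have h1 : (b * y) • α = α := (Subgroup.mem_inf.1 hby).2
    refine ⟨x * b⁻¹, mul_mem hx (inv_mem hb), ?_⟩
    rw [mul_smul, mul_smul]
    congr 1
    rw [inv_smul_eq_iff, ← mul_smul, h1]
  · exact (Subgroup.eq_bot_iff_forall _).1 hregT t (Subgroup.mem_inf.2 ⟨ht, htα⟩)
  · obtain ⟨b, hb, hbx⟩ := key 1 (one_mem _) h0 hh0 x (hcj1.symm ▸ hx)
    exact ⟨b, hT2C hb, hT12 x hx b hb ▸ hbx⟩
  · rcases hcases h hh with e | e
    · exact Or.inl fun t ht => e ▸ hconj h t ht
    · exact Or.inr fun t ht => hT2C (e ▸ hconj h t ht)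

end Cfsg.Agent.ExtremelyPrimitiveSocle
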